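import Groth.Agent.Cons51.TorsionInj
import Groth.Agent.EtCore45.SepClConst

/-!
Torsion sheaves embed into torsion sheaves without higher cohomology on quasi-compact quasi-separated
étale schemes; their higher direct images along quasi-compact quasi-separated morphisms vanish.
-/

set_option autoImplicit false
set_option backward.isDefEq.respectTransparency.types false
universe u

open CategoryTheory CategoryTheory.Limits CategoryTheory.Abelian AlgebraicGeometry Opposite
open Groth.Agent.Unr55.EtSh Groth.Agent.EtCore45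

namespace Groth.Agent.HTop50.Tor

variable {X : Scheme.{u}}

/-- Positive degree cohomology vanishes on every quasi-compact quasi-separated étale scheme. -/
def QcAcyclic (F : EtCoh.Ab X) : Prop :=
  ∀ (W : X.Etale), CompactSpace W.left → QuasiSeparatedSpace W.left → ∀ q : ℕ, 0 < q →
    Subsingleton (EtCoh.H W.left ((EtCoh.pull W.hom).obj F) q)

theorem qcAcyclic_of_isAcyclicEt {F : EtCoh.Ab X} (h : IsAcyclicEt F) : QcAcyclic F :=
  fun W _ _ q hq => h W q hq

theorem qcAcyclic_quot {S : ShortComplex (EtCoh.Ab X)} (hS : S.ShortExact)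
    (h₁ : QcAcyclic S.X₁) (h₂ : QcAcyclic S.X₂) : QcAcyclic S.X₃ := by
  intro W hc hs q hq
  refine subsingleton_of_forall_eq 0 fun x => ?_
  have := h₂ W hc hs q hq
  have := h₁ W hc hs (q + 1) q.succ_pos
  obtain ⟨x₂, rfl⟩ := Ext.covariant_sequence_exact₃ _ (shortExact_pull W hS) x rfl
    (Subsingleton.elim (α := EtCoh.H W.left ((EtCoh.pull W.hom).obj S.X₁) (q + 1)) _ _)
  obtain rfl := Subsingleton.elim (α := EtCoh.H W.left ((EtCoh.pull W.hom).obj S.X₂) q) x₂ 0
  exact Ext.zero_comp _ _ _ _ _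

/-- Every torsion sheaf embeds in a torsion sheaf acyclic on quasi-compact quasi-separated étale
schemes. -/
theorem exists_torsion_qcAcyclic {F : EtCoh.Ab X} (hF : EtCoh.IsTorsion F) :
    ∃ (T : EtCoh.Ab X) (v : F ⟶ T), Mono v ∧ EtCoh.IsTorsion T ∧ QcAcyclic T := by
  let I := Injective.under F
  let D := Cons51.factSeq I
  let R := colimit D
  let ιk : ℕ → (I ⟶ R) := fun k => colimit.ι D (Cons51.stage k)
  let r : I ⟶ R := ιk 0
  have : IsFiltered (AsSmall.{u + 1} ℕ) := IsFiltered.of_equivalence (AsSmall.equiv (C := ℕ))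
  let e0 : ∀ k, Cons51.stage.{u} 0 ⟶ Cons51.stage k := fun k => AsSmall.up.map (homOfLE (Nat.zero_le k))
  have hmap : ∀ k, (D.map (e0 k) : I ⟶ I) = k.factorial • 𝟙 I := fun k => Cons51.factSeq_map I k
  have hr : ∀ k, k.factorial • ιk k = r := fun k => by
    refine Eq.trans ?_ ((congrArg (fun g : I ⟶ I => g ≫ ιk k) (hmap k)).symm.trans (colimit.w D (e0 k)))
    rw [Preadditive.nsmul_comp, Category.id_comp]
  have hstalk : ∀ {K : Type u} [Field K] [IsSepClosed K] (η : Spec (CommRingCat.of K) ⟶ X) (k : ℕ)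
      (b : ((EtCoh.stalk η).obj I : AddCommGrpCat.{u + 1})),
      (EtCoh.stalk η).map (ιk k) (k.factorial • b) = (EtCoh.stalk η).map r b := by
    intro K _ _ η k b
    rw [← hr k, Functor.map_nsmul, map_nsmul]
    rfl
  have hepi : Epi r := epi_of_stalks r fun K _ _ η a => by
    have : PreservesColimitsOfSize.{u + 1, u + 1} (EtCoh.stalk η) :=
      (Scheme.pointSmallEtale η).skyscraperSheafAdjunction.leftAdjoint_preservesColimits
    obtain ⟨j, b, rfl⟩ := Concrete.isColimit_exists_rep _ (isColimitOfPreserves (EtCoh.stalk η) (colimit.isColimit D)) a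
    let b' : ((EtCoh.stalk η).obj I : AddCommGrpCat.{u + 1}) := b
    obtain ⟨y, hy⟩ := Cons51.exists_nsmul_stalk I (Nat.factorial_pos (AsSmall.down.obj j)) η b'
    refine ⟨y, (hstalk η (AsSmall.down.obj j) y).symm.trans ?_⟩
    rw [hy]
    rfl
  let S : ShortComplex (EtCoh.Ab X) := ShortComplex.mk (kernel.ι r) r (kernel.condition r)
  have hS : S.ShortExact := ShortComplex.ShortExact.mk' (ShortComplex.exact_of_f_is_kernel _ (kernelIsKernel r))
    inferInstance hepi
  have hTt : EtCoh.IsTorsion (kernel r) := by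
    refine (Cons51.isTorsion_iff_stalks _).2 fun K _ _ η a => ?_
    have : PreservesColimitsOfSize.{u + 1, u + 1} (EtCoh.stalk η) :=
      (Scheme.pointSmallEtale η).skyscraperSheafAdjunction.leftAdjoint_preservesColimits
    let b := (EtCoh.stalk η).map (kernel.ι r) a
    have hb : (EtCoh.stalk η).map r b = 0 := by
      rw [← ConcreteCategory.comp_apply, ← Functor.map_comp, kernel.condition, Functor.map_zero]
      rfl
    let hcS := isColimitOfPreserves (EtCoh.stalk η ⋙ forget AddCommGrpCat.{u + 1}) (colimit.isColimit D)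
    let b0 : ((EtCoh.stalk η).obj I : AddCommGrpCat.{u + 1}) := 0
    obtain ⟨j, f, hf⟩ := (Types.FilteredColimit.isColimit_eq_iff' (i := Cons51.stage 0) hcS b b0).1
      (hb.trans (map_zero ((EtCoh.stalk η).map r).hom).symm)
    have hfe : f = e0 (AsSmall.down.obj j) := ULift.ext _ _ (Subsingleton.elim _ _)
    subst hfe
    let g : I ⟶ I := D.map (e0 (AsSmall.down.obj j))
    have hg : g = (AsSmall.down.obj j).factorial • 𝟙 I := hmap _
    have h2' : (EtCoh.stalk η).map g b = (EtCoh.stalk η).map g b0 := hf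
    have h2 : (EtCoh.stalk η).map g b = 0 := h2'.trans (map_zero ((EtCoh.stalk η).map g).hom)
    rw [hg, Functor.map_nsmul, (EtCoh.stalk η).map_id] at h2
    refine isOfFinAddOrder_iff_nsmul_eq_zero.2 ⟨(AsSmall.down.obj j).factorial, Nat.factorial_pos _, ?_⟩
    refine (AddCommGrpCat.mono_iff_injective ((EtCoh.stalk η).map (kernel.ι r))).1 inferInstance ?_
    rw [map_nsmul, map_zero]
    exact h2
  have hFr : Injective.ι F ≫ r = 0 := by
    refine ObjectProperty.hom_ext _ (NatTrans.ext (funext fun U => ConcreteCategory.hom_ext _ _ fun σ => ?_))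
    refine sect_eq_zero_of_germ R _ fun K _ _ η p => ?_
    let a := (EtCoh.stalk η).map (Injective.ι F) (germ η F p σ)
    obtain ⟨N, hN, h0⟩ := isOfFinAddOrder_iff_nsmul_eq_zero.1
      ((Cons51.isTorsion_iff_stalks F).1 hF K η (germ η F p σ))
    obtain ⟨c, hc⟩ := Nat.dvd_factorial hN le_rfl
    have ha : N.factorial • a = 0 := by
      rw [hc, mul_comm, mul_nsmul']
      show c • N • (EtCoh.stalk η).map (Injective.ι F) (germ η F p σ) = 0
      rw [← map_nsmul, h0, map_zero, smul_zero]
    refine (stalk_map_germ η (Injective.ι F ≫ r) p σ).symm.trans ?_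
    rw [Functor.map_comp, ConcreteCategory.comp_apply]
    exact (hstalk η N a).symm.trans ((congrArg _ ha).trans (map_zero _))
  refine ⟨kernel r, kernel.lift r (Injective.ι F) hFr, ?_, hTt, fun W hc hs q hq => ?_⟩
  · have : Mono (kernel.lift r (Injective.ι F) hFr ≫ kernel.ι r) := by rw [kernel.lift_ι]; infer_instance
    exact mono_of_mono _ (kernel.ι r)
  have : Etale W.hom := W.prop
  let P := EtCoh.pull W.hom
  have : P.Additive := (EtCoh.pullPushAdj W.hom).left_adjoint_additive
  have : PreservesColimitsOfSize.{u + 1, u + 1} P := (EtCoh.pullPushAdj W.hom).leftAdjoint_preservesColimits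
  have : Injective (P.obj I) := EtCore45.injective_pull W.hom I
  have hSW := EtCore45.shortExact_pull W hS
  refine subsingleton_of_forall_eq 0 fun x => ?_
  obtain ⟨q, rfl⟩ := Nat.exists_eq_add_one.2 hq
  obtain ⟨x₃, rfl⟩ := Ext.covariant_sequence_exact₁ (EtCoh.const W.left ℤ) hSW x
    (Ext.eq_zero_of_injective (I := P.obj I) _) (rfl : q + 1 = q + 1)
  let hcol := isColimitOfPreserves P (colimit.isColimit D)
  rcases Nat.eq_zero_or_pos q with rfl | hq0
  · have := Unr55.HColim.preservesColimitsOfShape_HF (X := W.left) (AsSmall.{u + 1} ℕ) 0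
    obtain ⟨j, w, hw⟩ := Concrete.isColimit_exists_rep _ (isColimitOfPreserves (EtCoh.HF W.left 0) hcol) x₃
    obtain ⟨φ, rfl⟩ := Ext.addEquiv₀.symm.surjective w
    obtain ⟨ψ, hψ⟩ := Cons51.exists_nsmul_eq (G := P.obj I) (Nat.factorial_pos (AsSmall.down.obj j)) φ
    have e : ψ ≫ P.map r = φ ≫ P.map (colimit.ι D j) := by
      rw [← hr (AsSmall.down.obj j), Functor.map_nsmul, Preadditive.comp_nsmul,
        ← Preadditive.nsmul_comp, hψ]
      rfl
    have hx : x₃ = (Ext.mk₀ ψ).comp (Ext.mk₀ (P.map r)) (add_zero 0) := by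
      rw [← hw, Ext.mk₀_comp_mk₀, e, ← Ext.mk₀_comp_mk₀]
      rfl
    rw [hx]
    refine (Ext.comp_assoc_of_second_deg_zero _ _ _ _).trans ?_
    exact (congrArg ((Ext.mk₀ ψ).comp · (zero_add 1)) hSW.comp_extClass).trans (Ext.comp_zero _ _ _ _ _)
  · obtain ⟨p, rfl⟩ := Nat.exists_eq_add_one.2 hq0
    have := Unr55.HColim.subsingleton_H_colimit (X := W.left) (AsSmall.{u + 1} ℕ) (D ⋙ P)
      (fun _ => inferInstanceAs (Injective (P.obj I))) p
    let e : P.obj R ≅ colimit (D ⋙ P) := hcol.coconePointUniqueUpToIso (colimit.isColimit (D ⋙ P))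
    have h0 : (x₃.comp (Ext.mk₀ e.hom) (add_zero _)).comp (Ext.mk₀ e.inv) (add_zero _) = x₃ := by
      refine (Ext.comp_assoc_of_second_deg_zero _ _ _ _).trans ?_
      refine (congrArg (x₃.comp · (add_zero _)) ((Ext.mk₀_comp_mk₀ _ _).trans (congrArg Ext.mk₀ e.hom_inv_id))).trans ?_
      exact Ext.comp_mk₀_id x₃
    rw [← h0, show x₃.comp (Ext.mk₀ e.hom) (add_zero _) = 0 from
      Subsingleton.elim (α := EtCoh.H W.left (colimit (D ⋙ P)) (p + 1)) _ _, Ext.zero_comp]
    exact Ext.zero_comp _ _ _ _ _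

variable {Y : Scheme.{u}} (f : X ⟶ Y) [QuasiCompact f] [QuasiSeparated f]

theorem shortExact_push_qc {S : ShortComplex (EtCoh.Ab X)} (hS : S.ShortExact) (h₁ : QcAcyclic S.X₁) :
    (S.map (EtCoh.push f)).ShortExact := by
  have : PreservesLimitsOfSize.{0, 0} (EtCoh.push f) := (EtCoh.pullPushAdj f).rightAdjoint_preservesLimits
  have : PreservesFiniteLimits (EtCoh.push f) := PreservesLimitsOfSize.preservesFiniteLimits _
  have hl : (S.map (EtCoh.push f)).Exact ∧ Mono ((EtCoh.push f).map S.f) :=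
    (((Functor.preservesFiniteLimits_tfae (EtCoh.push f)).out 3 0).1 this :
      ∀ S : ShortComplex (EtCoh.Ab X), S.ShortExact → (S.map (EtCoh.push f)).Exact ∧ Mono ((EtCoh.push f).map S.f)) S hS
  have : Epi ((EtCoh.push f).map S.g) := Unr55.EtSh.epi_of_stalks _ fun K _ _ η b => by
    obtain ⟨V, hV, t, σ, rfl⟩ := Cons51.exists_germ_affine η _ b
    obtain ⟨h1, h2⟩ := Cons51.bc_qcqs f V
    obtain ⟨τ, hτ⟩ := sections_surjective hS ((EtCoh.bc f).obj V) (h₁ _ h1 h2 1 zero_lt_one) σ
    exact ⟨Unr55.EtSh.germ η ((EtCoh.push f).obj S.X₂) t τ,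
      (Unr55.EtSh.stalk_map_germ η ((EtCoh.push f).map S.g) t τ).trans (congrArg _ hτ)⟩
  exact ShortComplex.ShortExact.mk' hl.1 hl.2 this

/-- Higher direct images of qc-acyclic sheaves vanish. -/
theorem isZero_Rpush_of_qcAcyclic :
    ∀ (q : ℕ) (F : EtCoh.Ab X), QcAcyclic F → IsZero ((EtCoh.Rpush f (q + 1)).obj F) := by
  have : PreservesLimitsOfSize.{0, 0} (EtCoh.push f) := (EtCoh.pullPushAdj f).rightAdjoint_preservesLimits
  have : PreservesFiniteLimits (EtCoh.push f) := PreservesLimitsOfSize.preservesFiniteLimits _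
  obtain ⟨Δ⟩ := RD97.nonempty_derivedLES (EtCoh.push f)
  intro q
  induction q with
  | zero =>
    intro F hF
    have hS := injSeq_shortExact F
    have hS' := shortExact_push_qc f hS hF
    have hI : Injective (injSeq F).X₂ := inferInstanceAs (Injective (Injective.under F))
    have hz := (EtCoh.push f).isZero_rightDerived_obj_injective_succ 0 (injSeq F).X₂
    have he : Epi (((EtCoh.push f).rightDerived 0).map (injSeq F).g) := by
      have hn := (EtCoh.push f).rightDerivedZeroIsoSelf.hom.naturality (injSeq F).g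
      have : Epi ((EtCoh.push f).map (injSeq F).g) := hS'.epi_g
      rw [← cancel_mono ((EtCoh.push f).rightDerivedZeroIsoSelf.inv.app (injSeq F).X₃), Category.assoc,
        Iso.hom_inv_id_app, Category.comp_id] at hn
      rw [hn]
      infer_instance
    refine (Δ.exact₁ (injSeq F) hS 0 1 rfl).isZero_X₂ ?_ (hz.eq_of_tgt _ _)
    rw [← cancel_epi (((EtCoh.push f).rightDerived 0).map (injSeq F).g), comp_zero]
    exact Δ.comp_δ (injSeq F) hS 0 1 rfl
  | succ q ih =>
    intro F hF
    have hS := injSeq_shortExact F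
    have hI : Injective (injSeq F).X₂ := inferInstanceAs (Injective (Injective.under F))
    refine (Δ.exact₁ (injSeq F) hS (q + 1) (q + 2) rfl).isZero_X₂
      ((ih _ (qcAcyclic_quot hS hF (qcAcyclic_of_isAcyclicEt (isAcyclicEt_injective _)))).eq_of_src _ _)
      (((EtCoh.push f).isZero_rightDerived_obj_injective_succ (q + 1) (injSeq F).X₂).eq_of_tgt _ _)

end Groth.Agent.HTop50.Tor
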