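import Groth.Agent.Cons51.TorsionCoh
import Groth.Agent.EtCore45.HpullUH
import Groth.Agent.EtCore45.Stalks
import Groth.Agent.Unr55.Et.PullExact

/-!
Vanishing of higher direct images along proper morphisms is stable under base change, given proper base
change at geometric points.
-/

set_option autoImplicit false
set_option backward.isDefEq.respectTransparency.types false
universe u

open CategoryTheory CategoryTheory.Limits AlgebraicGeometry

namespace Groth.Agent.HTop50.Tor

/-- Proper base change at geometric points. -/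
def ProperBC : Prop :=
  ∀ {X Y : Scheme.{u}} (f : X ⟶ Y) [IsProper f] [EtCoh.BCCont f]
    {Ω : Type u} [Field Ω] [IsSepClosed Ω] (ξ : Spec (CommRingCat.of Ω) ⟶ Y)
    [EtCoh.BCCont (pullback.fst f ξ)] (F : EtCoh.Ab X) (_ : EtCoh.IsTorsion F) (n : ℕ),
    Nonempty ((EtCoh.stalk ξ).obj ((EtCoh.Rpush f n).obj F) ≅
      AddCommGrpCat.of (EtCoh.H (pullback f ξ) ((EtCoh.pull (pullback.fst f ξ)).obj F) n))

theorem subsingleton_H_of_iso {A B : Scheme.{u}} (e : A ≅ B) (G : EtCoh.Ab B) (n : ℕ)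
    [Subsingleton (EtCoh.H B G n)] : Subsingleton (EtCoh.H A ((EtCoh.pull e.hom).obj G) n) := by
  have := Unr55.EtSh.preservesFiniteLimits_pull e.hom
  exact (EtCore45.Hpull_bijective_uh e.hom G n).2.subsingleton

variable (hpbc : ProperBC.{u})
include hpbc

/-- Higher direct images of torsion sheaves that vanish do so after base change. -/
theorem isZero_Rpush_baseChange {P P' X W : Scheme.{u}} {h : P ⟶ X} [IsProper h] {f : W ⟶ X}
    {g : P' ⟶ P} {p : P' ⟶ W} [IsProper p] (sq : IsPullback g p h f)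
    {G : EtCoh.Ab P} (hG : EtCoh.IsTorsion G) (j : ℕ) (hz : IsZero ((EtCoh.Rpush h j).obj G)) :
    IsZero ((EtCoh.Rpush p j).obj ((EtCoh.pull g).obj G)) := by
  refine EtCore45.isZero_of_stalks _ fun K _ _ ξ => ?_
  obtain ⟨e⟩ := hpbc p ξ _ (Cons51.isTorsion_pull g hG) j
  refine IsZero.of_iso ?_ e
  obtain ⟨e'⟩ := hpbc h (ξ ≫ f) G hG j
  have : Subsingleton (EtCoh.H (pullback h (ξ ≫ f))
      ((EtCoh.pull (pullback.fst h (ξ ≫ f))).obj G) j) :=
    AddCommGrpCat.subsingleton_of_isZero (IsZero.of_iso ((EtCoh.stalk (ξ ≫ f)).map_isZero hz) e'.symm)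
  have sq' : IsPullback (pullback.fst p ξ ≫ g) (pullback.snd p ξ) h (ξ ≫ f) :=
    (IsPullback.of_hasPullback p ξ).paste_horiz sq
  let c := sq'.isoPullback
  have : Subsingleton ((EtCoh.HF (pullback p ξ) j).obj
      ((EtCoh.pull c.hom).obj ((EtCoh.pull (pullback.fst h (ξ ≫ f))).obj G)) : AddCommGrpCat.{u + 1}) :=
    subsingleton_H_of_iso c ((EtCoh.pull (pullback.fst h (ξ ≫ f))).obj G) j
  let i : (EtCoh.pull (pullback.fst p ξ)).obj ((EtCoh.pull g).obj G) ≅
      (EtCoh.pull c.hom).obj ((EtCoh.pull (pullback.fst h (ξ ≫ f))).obj G) :=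
    ((EtCore.pullComp _ _).symm ≪≫ EtCore.pullCongr sq'.isoPullback_hom_fst.symm ≪≫
      EtCore.pullComp _ _).app G
  have : Subsingleton (EtCoh.H (pullback p ξ)
      ((EtCoh.pull (pullback.fst p ξ)).obj ((EtCoh.pull g).obj G)) j) :=
    (((EtCoh.HF _ j).mapIso i).addCommGroupIsoToAddEquiv).toEquiv.subsingleton
  exact AddCommGrpCat.isZero_of_subsingleton _

end Groth.Agent.HTop50.Tor
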