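import Groth.Agent.HTop50.Tor.BigRestrict
import Groth.Agent.EtCore45.Acyclic
import Groth.Agent.Unr55.Et.StrictHensH

/-!
Comparison of étale cohomology with cohomology on the big site of a geometric topology, for sheaves whose
classes die étale locally.
-/

universe u

open CategoryTheory CategoryTheory.Limits AlgebraicGeometry Opposite CategoryTheory.Abelian

namespace Groth.Agent.HTop50.Big

set_option backward.isDefEq.respectTransparency.types false
set_option linter.unusedSectionVars false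

open Mod48 (GSite lFree lMap lSec lEquiv lEquiv_comp lEquiv_symm_comp resX resX_comp resX_zero
  resX_comp_ext resX_mk₀ etale_left)

variable {τ : GrothendieckTopology Scheme.{u}} [GeomTop τ] {X : Scheme.{u}}

section Gen

variable {C : Type (u + 1)} [Category.{u} C] {J : GrothendieckTopology C}
  [HasSheafify J AddCommGrpCat.{u + 1}] {T : C} (hT : IsTerminal T)

/-- Morphisms out of the constant sheaf are sections at a final object. -/
noncomputable def cEquiv (F : Sheaf J AddCommGrpCat.{u + 1}) :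
    ((constantSheaf J AddCommGrpCat.{u + 1}).obj (AddCommGrpCat.of (ULift ℤ)) ⟶ F) ≃+ F.obj.obj (op T) :=
  ((constantSheafAdj J AddCommGrpCat.{u + 1} hT).homAddEquiv _ F).trans
    (AddCommGrpCat.uliftZMultiplesAddEquiv _)

lemma cEquiv_comp {F G : Sheaf J AddCommGrpCat.{u + 1}}
    (φ : (constantSheaf J AddCommGrpCat.{u + 1}).obj (AddCommGrpCat.of (ULift ℤ)) ⟶ F) (g : F ⟶ G) :
    cEquiv hT G (φ ≫ g) = g.hom.app (op T) (cEquiv hT F φ) := rfl

/-- The constant sheaf is free on a final object. -/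
noncomputable def freeTopIso :
    (constantSheaf J AddCommGrpCat.{u + 1}).obj (AddCommGrpCat.of (ULift ℤ)) ≅ lFree J T where
  hom := (cEquiv hT _).symm (lSec J T)
  inv := (lEquiv T _).symm (cEquiv hT _ (𝟙 _))
  hom_inv_id := by
    apply (cEquiv hT _).injective
    rw [cEquiv_comp, AddEquiv.apply_symm_apply]
    exact (lEquiv T _).apply_symm_apply _
  inv_hom_id := by
    apply (lEquiv T _).injective
    rw [lEquiv_comp, AddEquiv.apply_symm_apply, ← cEquiv_comp, Category.id_comp,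
      AddEquiv.apply_symm_apply]
    rfl

end Gen

variable (τ X) in
/-- The final object of the big site. -/
noncomputable abbrev bTop : Over X := (EtFppf.a X).obj (EtCoh.top X)

/-- Classes over étale schemes die étale locally. -/
def EtAcy (M : BAb τ X) (n : ℕ) : Prop :=
  ∀ (V : X.Etale) (ξ : Ext.{u + 1} (lFree (τ.over X) ((EtFppf.a X).obj V)) M n), EtKill ξ

lemma etAcy_of_acy {M : BAb τ X} {n : ℕ} (h : Acy M n) : EtAcy M n := fun _ ξ => h _ ξ

lemma exists_etale_of_over' (V : X.Etale) {W : Over X} (g : W ⟶ (EtFppf.a X).obj V) (hg : Etale g.left) :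
    ∃ (V' : X.Etale) (g' : V' ⟶ V) (e : (EtFppf.a X).obj V' ⟶ W), (EtFppf.a X).map g' = e ≫ g ∧
      ∀ w : W.left, ∃ v : V'.left, g'.left v = g.left w := by
  have : Etale V.hom := V.prop
  have hW : Etale W.hom := by
    rw [← Over.w g]
    exact MorphismProperty.comp_mem _ _ _ hg (inferInstance : Etale V.hom)
  exact ⟨MorphismProperty.Over.mk ⊤ W.hom hW, MorphismProperty.Over.homMk g.left (Over.w g),
    Over.homMk (𝟙 _) (Category.id_comp _),
    Over.OverMorphism.ext (Category.id_comp _).symm, fun w => ⟨w, rfl⟩⟩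

variable (τ X) in
/-- The tautological class in degree zero. -/
noncomputable def etaTop : lFree (τ.over X) (bTop X) ⟶
    (bigPull τ X).obj ((constantSheaf X.smallEtaleTopology AddCommGrpCat.{u + 1}).obj
      (AddCommGrpCat.of (ULift ℤ))) :=
  (lEquiv (bTop X) _).symm (GSite.etaSect (τ.over X) (EtFppf.a X) _
    (cEquiv (Unr55.EtSh.isTerminalTop X) _ (𝟙 _)))

instance bigPull_preservesFiniteColimits : PreservesFiniteColimits (bigPull τ X) :=
  have : PreservesColimitsOfSize.{0, 0} (bigPull τ X) := (bigAdj τ X).leftAdjoint_preservesColimits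
  PreservesColimitsOfSize.preservesFiniteColimits _

instance bigPull_preservesFiniteLimits : PreservesFiniteLimits (bigPull τ X) :=
  (Functor.preservesFiniteLimits_iff_forall_exact_map_and_mono (bigPull τ X)).2 fun S hS =>
    ⟨(aPull_shortExact τ hS).exact, (aPull_shortExact τ hS).mono_f⟩

/-- The comparison map in cohomology. -/
noncomputable def leray (M : BAb τ X) (n : ℕ) :
    EtCoh.H X ((bigPush τ X).obj M) n →+ Ext.{u + 1} (lFree (τ.over X) (bTop X)) M n :=
  ((Ext.mk₀ ((bigAdj τ X).counit.app M)).postcomp _ (add_zero n)).comp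
    (SiteCoh.extTransfer (bigPull τ X) (etaTop τ X) _ n)

lemma leray_apply (M : BAb τ X) (n : ℕ) (x : EtCoh.H X ((bigPush τ X).obj M) n) :
    leray M n x = (SiteCoh.extTransfer (bigPull τ X) (etaTop τ X) _ n x).comp
      (Ext.mk₀ ((bigAdj τ X).counit.app M)) (add_zero n) := rfl

instance isIso_bigGSite_c (X : Scheme.{u}) : IsIso (bigGSite τ X).c := by
  have : ∀ U, IsIso ((bigGSite τ X).c.app U) := fun U => inferInstanceAs (IsIso (𝟙 _))
  exact NatIso.isIso_of_isIso_app _

lemma leray_mk₀ (M : BAb τ X)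
    (φ : (constantSheaf X.smallEtaleTopology AddCommGrpCat.{u + 1}).obj (AddCommGrpCat.of (ULift ℤ)) ⟶
      (bigPush τ X).obj M) :
    leray M 0 (Ext.mk₀ φ) = Ext.mk₀ ((lEquiv (bTop X) M).symm
      (cEquiv (Unr55.EtSh.isTerminalTop X) _ φ : ((bigPush τ X).obj M).obj.obj (op (EtCoh.top X)))) := by
  rw [leray_apply, SiteCoh.extTransfer_mk₀, Ext.mk₀_comp_mk₀]
  congr 1
  apply (lEquiv (bTop X) M).injective
  rw [AddEquiv.apply_symm_apply, lEquiv_comp, etaTop, lEquiv_comp, AddEquiv.apply_symm_apply]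
  have h1 := congrArg (fun ψ : _ ⟶ (bigPush τ X).obj ((bigPull τ X).obj ((bigPush τ X).obj M)) =>
    ψ.hom.app (op (EtCoh.top X)) (cEquiv (Unr55.EtSh.isTerminalTop X) _ (𝟙 _)))
    ((bigAdj τ X).unit.naturality φ)
  refine (congrArg (((bigAdj τ X).counit.app M).hom.app (op (bTop X))) h1.symm).trans ?_
  have h2 : cEquiv (Unr55.EtSh.isTerminalTop X) _ φ =
      φ.hom.app (op (EtCoh.top X)) (cEquiv (Unr55.EtSh.isTerminalTop X) _ (𝟙 _)) := by
    conv_lhs => rw [← Category.id_comp φ]
    exact cEquiv_comp _ _ φ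
  rw [h2]
  exact congrArg (fun ψ : (bigPush τ X).obj M ⟶ (bigPush τ X).obj M =>
    ψ.hom.app (op (EtCoh.top X)) (φ.hom.app (op (EtCoh.top X)) (cEquiv (Unr55.EtSh.isTerminalTop X) _ (𝟙 _))))
    ((bigAdj τ X).right_triangle_components M)

lemma leray_bijective_zero (M : BAb τ X) : Function.Bijective (leray M 0) := by
  have e : (leray M 0 : EtCoh.H X ((bigPush τ X).obj M) 0 → _) =
      Ext.addEquiv₀.symm ∘ (lEquiv (bTop X) M).symm ∘
        cEquiv (Unr55.EtSh.isTerminalTop X) ((bigPush τ X).obj M) ∘ Ext.addEquiv₀ := by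
    funext ξ
    obtain ⟨φ, rfl⟩ := Ext.addEquiv₀.symm.surjective ξ
    simp only [Function.comp_apply, AddEquiv.apply_symm_apply]
    exact leray_mk₀ M φ
  rw [e]
  exact Ext.addEquiv₀.symm.bijective.comp ((lEquiv (bTop X) M).symm.bijective.comp
    ((cEquiv (Unr55.EtSh.isTerminalTop X) ((bigPush τ X).obj M)).bijective.comp Ext.addEquiv₀.bijective))

lemma leray_naturality {M M' : BAb τ X} (g : M ⟶ M') {n : ℕ}
    (x : EtCoh.H X ((bigPush τ X).obj M) n) :
    leray M' n (x.comp (Ext.mk₀ ((bigPush τ X).map g)) (add_zero n)) =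
      (leray M n x).comp (Ext.mk₀ g) (add_zero n) := by
  rw [leray_apply, leray_apply]
  rw [SiteCoh.extTransfer_naturality, Ext.comp_assoc_of_second_deg_zero, Ext.comp_assoc_of_second_deg_zero,
    Ext.mk₀_comp_mk₀, Ext.mk₀_comp_mk₀]
  congr 2
  exact (bigAdj τ X).counit.naturality g

set_option maxHeartbeats 1000000 in
/-- Injectivity in the first degree beyond the acyclic range, and surjectivity onto the classes dying
étale locally. -/
theorem leray_step : ∀ (k : ℕ) (M : BAb τ X), (∀ j, 1 ≤ j → j ≤ k → EtAcy M j) →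
    Function.Injective (leray M (k + 1)) ∧
      ∀ ξ : Ext.{u + 1} (lFree (τ.over X) (bTop X)) M (k + 1), EtKill ξ → ∃ x, leray M (k + 1) x = ξ := by
  intro k
  induction k with
  | zero => ?_
  | succ k ih => ?_
  all_goals
    intro M hM
    let T : ShortComplex (BAb τ X) :=
      ShortComplex.mk (Injective.ι M) (cokernel.π (Injective.ι M)) (cokernel.condition _)
    have hT : T.ShortExact :=
      { exact := ShortComplex.exact_of_g_is_cokernel _ (cokernelIsCokernel (Injective.ι M))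
        mono_f := inferInstanceAs (Mono (Injective.ι M))
        epi_g := inferInstanceAs (Epi (cokernel.π _)) }
    let Φ := bigPush τ X
    have : PreservesLimitsOfSize.{0, 0} Φ := (bigAdj τ X).rightAdjoint_preservesLimits
    have : PreservesFiniteLimits Φ := PreservesLimitsOfSize.preservesFiniteLimits _
    obtain ⟨hTe, hTm⟩ := (Functor.preservesFiniteLimits_iff_forall_exact_map_and_mono Φ).1 inferInstance _ hT
    let S : ShortComplex (EtCoh.Ab X) :=
      ShortComplex.mk (Φ.map T.f) (cokernel.π (Φ.map T.f)) (cokernel.condition _)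
    have hS : S.ShortExact :=
      { exact := ShortComplex.exact_of_g_is_cokernel _ (cokernelIsCokernel (Φ.map T.f))
        mono_f := hTm
        epi_g := inferInstanceAs (Epi (cokernel.π _)) }
    let j : S.X₃ ⟶ Φ.obj T.X₃ := cokernel.desc (Φ.map T.f) (Φ.map T.g) (T.map Φ).zero
    have : Mono j := hTe.mono_cokernelDesc
    have hqj : S.g ≫ j = Φ.map T.g := cokernel.π_desc _ _ _
    let θ : S.map (bigPull τ X) ⟶ T :=
      { τ₁ := (bigAdj τ X).counit.app T.X₁
        τ₂ := (bigAdj τ X).counit.app T.X₂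
        τ₃ := (bigPull τ X).map j ≫ (bigAdj τ X).counit.app T.X₃
        comm₁₂ := ((bigAdj τ X).counit.naturality T.f).symm
        comm₂₃ := by
          show (bigAdj τ X).counit.app T.X₂ ≫ T.g =
            (bigPull τ X).map S.g ≫ (bigPull τ X).map j ≫ (bigAdj τ X).counit.app T.X₃
          rw [← Category.assoc, ← Functor.map_comp, hqj]
          exact ((bigAdj τ X).counit.naturality T.g).symm }
    have : (bigPull τ X).PreservesMonomorphisms := ⟨fun f _ => mono_aPull_map τ f⟩
    have hI : Injective S.X₂ := Injective.injective_of_adjoint (bigAdj τ X) (Injective.under M)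
    have hψ : ∀ (n : ℕ) (s : EtCoh.H X S.X₃ n), leray M (n + 1) (s.comp hS.extClass rfl) =
        (leray T.X₃ n (s.comp (Ext.mk₀ j) (add_zero n))).comp hT.extClass rfl := by
      intro n s
      have e := (hS.map_of_exact (bigPull τ X)).extClass_naturality hT θ
      rw [leray_apply, leray_apply]
      rw [SiteCoh.extTransfer_comp, Ext.mapExactFunctor_extClass (bigPull τ X) hS,
        SiteCoh.extTransfer_naturality, Ext.comp_assoc _ _ _ rfl (add_zero 1) (by omega)]
      refine (congrArg (fun q => Ext.comp _ q rfl) e).trans ?_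
      rw [← Ext.comp_assoc _ _ _ (add_zero _) (zero_add 1) (by omega),
        Ext.comp_assoc _ _ _ (add_zero _) (add_zero 0) (by omega), Ext.mk₀_comp_mk₀]
      rfl
  · refine ⟨(injective_iff_map_eq_zero _).2 fun x hx => ?_, fun ξ hξ => ?_⟩
    · obtain ⟨s, rfl⟩ := Ext.covariant_sequence_exact₁ _ hS x
        ((Ext.subsingleton_of_injective _ S.X₂ 0).elim _ _) rfl
      rw [hψ] at hx
      obtain ⟨t, ht⟩ := Ext.covariant_sequence_exact₃ _ hT _ rfl hx
      obtain ⟨t', rfl⟩ := (leray_bijective_zero T.X₂).2 t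
      have h1 : t'.comp (Ext.mk₀ (Φ.map T.g)) (add_zero 0) = s.comp (Ext.mk₀ j) (add_zero 0) :=
        (leray_bijective_zero T.X₃).1 ((leray_naturality T.g t').trans ht)
      obtain ⟨a, rfl⟩ := Ext.addEquiv₀.symm.surjective t'
      obtain ⟨b, rfl⟩ := Ext.addEquiv₀.symm.surjective s
      have h2 : a ≫ Φ.map T.g = b ≫ j :=
        (Ext.mk₀_bijective _ _).1 (((Ext.mk₀_comp_mk₀ _ _).symm.trans h1).trans (Ext.mk₀_comp_mk₀ _ _))
      have hb : b = a ≫ S.g := (cancel_mono j).1 (by rw [← h2, Category.assoc, hqj])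
      subst hb
      show (Ext.mk₀ (a ≫ S.g)).comp hS.extClass _ = 0
      rw [← Ext.mk₀_comp_mk₀, Ext.comp_assoc _ _ _ (add_zero 0) (zero_add 1) (by omega),
        hS.comp_extClass, Ext.comp_zero]
    · obtain ⟨s, rfl⟩ := Ext.covariant_sequence_exact₁ _ hT ξ
        ((Ext.subsingleton_of_injective _ (Injective.under M) 0).elim _ _) rfl
      obtain ⟨φ, rfl⟩ := Ext.addEquiv₀.symm.surjective s
      obtain ⟨σ, rfl⟩ := (lEquiv (bTop X) _).symm.surjective φ
      let σ' : EtCoh.sect (Φ.obj T.X₃) (EtCoh.top X) := σ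
      have hc : (cokernel.π j).hom.app (op (EtCoh.top X)) σ' = 0 := by
        refine Unr55.EtSh.sect_eq_zero_of_local (cokernel j) _ fun x => ?_
        obtain ⟨W, g, w, hg, hw, hz⟩ := hξ x
        obtain ⟨V', g', e, he, hei⟩ := exists_etale_of_over' (EtCoh.top X) g hg
        have hz' : resX ((EtFppf.a X).map g')
            ((Ext.mk₀ ((lEquiv (bTop X) T.X₃).symm σ)).comp hT.extClass (zero_add 1)) = 0 := by
          rw [he, resX_comp]
          exact (congrArg (resX e) hz).trans (resX_zero _)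
        rw [resX_comp_ext, resX_mk₀] at hz'
        obtain ⟨t₀, ht₀⟩ := Ext.covariant_sequence_exact₃ _ hT _ rfl hz'
        obtain ⟨ψ₀, rfl⟩ := Ext.addEquiv₀.symm.surjective t₀
        obtain ⟨i₀, rfl⟩ := (lEquiv _ _).symm.surjective ψ₀
        have ht₀' : (Ext.mk₀ ((lEquiv ((EtFppf.a X).obj V') T.X₂).symm i₀)).comp (Ext.mk₀ T.g) (add_zero 0) =
          Ext.mk₀ ((lEquiv ((EtFppf.a X).obj V') T.X₃).symm (T.X₃.obj.map ((EtFppf.a X).map g').op σ)) := ht₀
        rw [Ext.mk₀_comp_mk₀, lEquiv_symm_comp] at ht₀'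
        have hi : (Φ.map T.g).hom.app (op V') i₀ = (Φ.obj T.X₃).obj.map g'.op σ' :=
          (lEquiv ((EtFppf.a X).obj V') T.X₃).symm.injective ((Ext.mk₀_bijective _ _).1 ht₀')
        obtain ⟨v, hv⟩ := hei w
        refine ⟨V', g', v, hv.trans hw, ?_⟩
        refine (NatTrans.naturality_apply (cokernel.π j).hom g'.op σ').symm.trans ?_
        rw [← hi, ← hqj]
        exact congrArg (fun ψ : S.X₂ ⟶ cokernel j => ψ.hom.app (op V') i₀)
          (show (S.g ≫ j) ≫ cokernel.π j = 0 by rw [Category.assoc, cokernel.condition, comp_zero])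
      let φ' := (cEquiv (Unr55.EtSh.isTerminalTop X) (Φ.obj T.X₃)).symm σ'
      have hφ' : φ' ≫ cokernel.π j = 0 := by
        apply (cEquiv (Unr55.EtSh.isTerminalTop X) (cokernel j)).injective
        rw [cEquiv_comp, AddEquiv.apply_symm_apply, hc, map_zero]
      refine ⟨(Ext.mk₀ (Abelian.monoLift j φ' hφ')).comp hS.extClass rfl, ?_⟩
      rw [hψ, Ext.mk₀_comp_mk₀, Abelian.monoLift_comp, leray_mk₀, AddEquiv.apply_symm_apply]
      rfl
  · have hsurj : Sheaf.IsLocallySurjective j := by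
      refine ⟨fun {V} σ => Unr55.EtSh.mem_topology fun x => ?_⟩
      let σ' : T.X₃.obj.obj (op ((EtFppf.a X).obj V)) := σ
      obtain ⟨W, g, w, hg, hw, hz⟩ :=
        hM 1 le_rfl (by omega) V ((Ext.mk₀ ((lEquiv _ T.X₃).symm σ')).comp hT.extClass (zero_add 1)) x
      obtain ⟨V', g', e, he, hei⟩ := exists_etale_of_over' V g hg
      have hz' : resX ((EtFppf.a X).map g')
          ((Ext.mk₀ ((lEquiv _ T.X₃).symm σ')).comp hT.extClass (zero_add 1)) = 0 := by
        rw [he, resX_comp, hz]; exact resX_zero _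
      rw [resX_comp_ext, resX_mk₀] at hz'
      obtain ⟨t₀, ht₀⟩ := Ext.covariant_sequence_exact₃ _ hT _ rfl hz'
      obtain ⟨ψ₀, rfl⟩ := Ext.addEquiv₀.symm.surjective t₀
      obtain ⟨i₀, rfl⟩ := (lEquiv _ _).symm.surjective ψ₀
      have ht₀' : (Ext.mk₀ ((lEquiv ((EtFppf.a X).obj V') T.X₂).symm i₀)).comp (Ext.mk₀ T.g) (add_zero 0) =
        Ext.mk₀ ((lEquiv ((EtFppf.a X).obj V') T.X₃).symm (T.X₃.obj.map ((EtFppf.a X).map g').op σ')) := ht₀
      rw [Ext.mk₀_comp_mk₀, lEquiv_symm_comp] at ht₀'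
      have hi := (lEquiv ((EtFppf.a X).obj V') T.X₃).symm.injective ((Ext.mk₀_bijective _ _).1 ht₀')
      obtain ⟨v, hv⟩ := hei w
      refine ⟨V', g', v, ⟨S.g.hom.app (op V') i₀, ?_⟩, hv.trans hw⟩
      exact (congrArg (fun φ : S.X₂ ⟶ Φ.obj T.X₃ => φ.hom.app (op V') i₀) hqj).trans hi
    have : Epi j := (Sheaf.isLocallySurjective_iff_epi' AddCommGrpCat.{u + 1} j).1 hsurj
    have : IsIso j := isIso_of_mono_of_epi j
    have hQ : ∀ i, 1 ≤ i → i ≤ k → EtAcy T.X₃ i := by
      intro i hi1 hi2 V α x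
      obtain ⟨W, g, w, hg, hw, hz⟩ := hM (i + 1) (by omega) (by omega) V (α.comp hT.extClass rfl) x
      rw [resX_comp_ext] at hz
      obtain ⟨t', ht'⟩ := Ext.covariant_sequence_exact₃ _ hT (resX g α) rfl hz
      refine ⟨W, g, w, hg, hw, ?_⟩
      obtain ⟨i, rfl⟩ := Nat.exists_eq_add_one.2 hi1
      rw [← ht', (Ext.subsingleton_of_injective _ (Injective.under M) i).elim t' 0, Ext.zero_comp]
    obtain ⟨ih1, ih2⟩ := ih T.X₃ hQ
    refine ⟨(injective_iff_map_eq_zero _).2 fun x hx => ?_, fun ξ hξ => ?_⟩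
    · obtain ⟨s, rfl⟩ := Ext.covariant_sequence_exact₁ _ hS x
        ((Ext.subsingleton_of_injective _ S.X₂ (k + 1)).elim _ _) rfl
      rw [hψ] at hx
      obtain ⟨t, ht⟩ := Ext.covariant_sequence_exact₃ _ hT _ rfl hx
      rw [(Ext.subsingleton_of_injective _ (Injective.under M) k).elim t 0, Ext.zero_comp] at ht
      have h0 : s.comp (Ext.mk₀ j) (add_zero _) = 0 := ih1 (ht.symm.trans (map_zero _).symm)
      have := congrArg (fun q => Ext.comp q (Ext.mk₀ (inv j)) (add_zero _)) h0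
      rw [Ext.comp_assoc _ _ _ (add_zero _) (add_zero 0) (by omega), Ext.mk₀_comp_mk₀,
        IsIso.hom_inv_id, Ext.comp_mk₀_id, Ext.zero_comp] at this
      rw [this, Ext.zero_comp]
    · obtain ⟨s, rfl⟩ := Ext.covariant_sequence_exact₁ _ hT ξ
        ((Ext.subsingleton_of_injective _ (Injective.under M) (k + 1)).elim _ _) rfl
      have hs : EtKill s := fun x => by
        obtain ⟨W, g, w, hg, hw, hz⟩ := hξ x
        rw [resX_comp_ext] at hz
        obtain ⟨t', ht'⟩ := Ext.covariant_sequence_exact₃ _ hT (resX g s) rfl hz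
        refine ⟨W, g, w, hg, hw, ?_⟩
        rw [← ht', (Ext.subsingleton_of_injective _ (Injective.under M) k).elim t' 0, Ext.zero_comp]
      obtain ⟨y, hy⟩ := ih2 s hs
      refine ⟨(y.comp (Ext.mk₀ (inv j)) (add_zero _)).comp hS.extClass rfl, ?_⟩
      rw [hψ, Ext.comp_assoc _ _ _ (add_zero _) (add_zero 0) (by omega), Ext.mk₀_comp_mk₀,
        IsIso.inv_hom_id, Ext.comp_mk₀_id, hy]

/-- Étale cohomology is cohomology on the big site in the acyclic range. -/
theorem leray_bijective (M : BAb τ X) (n : ℕ) (hM : ∀ j, 1 ≤ j → j ≤ n → EtAcy M j) :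
    Function.Bijective (leray M n) := by
  cases n with
  | zero => exact leray_bijective_zero M
  | succ n =>
    obtain ⟨h1, h2⟩ := leray_step n M fun j hj hj' => hM j hj (by omega)
    exact ⟨h1, fun ξ => h2 ξ (hM (n + 1) (by omega) le_rfl _ ξ)⟩

/-- A global class dying étale locally vanishes if étale cohomology vanishes. -/
theorem eq_zero_of_etKill (F : EtCoh.Ab X) (k : ℕ)
    (hM : ∀ j, 1 ≤ j → j ≤ k → EtAcy ((bigPull τ X).obj F) j)
    (hH : Subsingleton (EtCoh.H X F (k + 1)))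
    (ξ : Ext.{u + 1} (lFree (τ.over X) (bTop X)) ((bigPull τ X).obj F) (k + 1)) (hξ : EtKill ξ) :
    ξ = 0 := by
  obtain ⟨x, rfl⟩ := (leray_step k _ hM).2 ξ hξ
  have := (bigGSite τ X).isIso_unit F
  have e : (x.comp (Ext.mk₀ (inv ((bigAdj τ X).unit.app F))) (add_zero _)).comp
      (Ext.mk₀ ((bigAdj τ X).unit.app F)) (add_zero _) = x := by
    rw [Ext.comp_assoc_of_second_deg_zero, Ext.mk₀_comp_mk₀, IsIso.inv_hom_id, Ext.comp_mk₀_id]
  rw [← e, show x.comp (Ext.mk₀ (inv ((bigAdj τ X).unit.app F))) (add_zero _) = 0 from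
    Subsingleton.elim (α := EtCoh.H X F (k + 1)) _ _, Ext.zero_comp, map_zero]

/-- Étale cohomology is cohomology on the big site. -/
theorem nonempty_H_equiv (F : EtCoh.Ab X) (q : ℕ)
    (hM : ∀ j, 1 ≤ j → j ≤ q → EtAcy ((bigPull τ X).obj F) j) :
    Nonempty (EtCoh.H X F q ≃+ Sheaf.H.{u + 1} ((bigPull τ X).obj F) q) := by
  have := (bigGSite τ X).isIso_unit F
  let e1 : EtCoh.H X F q ≃+ EtCoh.H X ((bigPush τ X).obj ((bigPull τ X).obj F)) q :=
    ((EtCoh.HF X q).mapIso (asIso ((bigAdj τ X).unit.app F))).addCommGroupIsoToAddEquiv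
  let e2 := AddEquiv.ofBijective (leray ((bigPull τ X).obj F) q) (leray_bijective _ q hM)
  let i := freeTopIso (J := τ.over X) (T := bTop X) Over.mkIdTerminal
  let e3 : Ext.{u + 1} (lFree (τ.over X) (bTop X)) ((bigPull τ X).obj F) q →+
      Sheaf.H.{u + 1} ((bigPull τ X).obj F) q := (Ext.mk₀ i.hom).precomp _ (zero_add q)
  have h3 : Function.Bijective e3 := by
    refine Function.bijective_iff_has_inverse.2
      ⟨fun y => (Ext.mk₀ i.inv).comp y (zero_add q), fun y => ?_, fun y => ?_⟩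
    · show (Ext.mk₀ i.inv).comp ((Ext.mk₀ i.hom).comp y (zero_add q)) (zero_add q) = y
      rw [Ext.mk₀_comp_mk₀_assoc, i.inv_hom_id, Ext.mk₀_id_comp]
    · show (Ext.mk₀ i.hom).comp ((Ext.mk₀ i.inv).comp y (zero_add q)) (zero_add q) = y
      rw [Ext.mk₀_comp_mk₀_assoc, i.hom_inv_id, Ext.mk₀_id_comp]
  exact ⟨(e1.trans e2).trans (AddEquiv.ofBijective e3 h3)⟩

end Groth.Agent.HTop50.Big
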