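import Groth.Agent.HTop50.Tor.BigRestrict

/-!
Adjoint classes for direct image between big sites (after `Groth.Agent.Mod48.FppfPush`).
-/

universe u

open CategoryTheory CategoryTheory.Limits AlgebraicGeometry Opposite CategoryTheory.Abelian

namespace Groth.Agent.HTop50.Big

set_option backward.isDefEq.respectTransparency.types false
set_option linter.unusedSectionVars false

open Mod48 (lFree lMap lSec lEquiv lEquiv_comp lEquiv_symm_comp resX resX_comp resX_zero resX_comp_ext resX_mk₀)

variable {τ : GrothendieckTopology Scheme.{u}} [GeomTop τ]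

variable {X Y : Scheme.{u}} (h : Y ⟶ X)

/-- The counit on the underlying schemes. -/
noncomputable abbrev piW (W : Over X) : (Over.map h).obj ((Over.pullback h).obj W) ⟶ W :=
  (Over.mapPullbackAdj h).counit.app W

/-- Adjoint classes on the source. -/
noncomputable def psi (M : BAb τ Y) {W : Over X} {n : ℕ}
    (η : Ext.{u + 1} (lFree (τ.over X) W) ((bigDir τ h).obj M) n) :
    Ext.{u + 1} (lFree (τ.over Y) ((Over.pullback h).obj W)) M n :=
  (fExt τ h (piW h W) _ n η).comp (Ext.mk₀ ((fResAdj τ h).counit.app M)) (add_zero n)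

lemma psi_resX {M : BAb τ Y} {W W' : Over X} (g : W' ⟶ W) {n : ℕ}
    (η : Ext.{u + 1} (lFree (τ.over X) W) ((bigDir τ h).obj M) n) :
    psi h M (resX g η) = resX ((Over.pullback h).map g) (psi h M η) := by
  have e : piW h W' ≫ g = (Over.map h).map ((Over.pullback h).map g) ≫ piW h W :=
    ((Over.mapPullbackAdj h).counit.naturality g).symm
  rw [psi, psi, fExt_resX, resX_comp_ext, resX_fExt, e]

lemma counit_sections {M : BAb τ Y} {W : Over X} (x : ((bigDir τ h).obj M).obj.obj (op W)) :
    ((fResAdj τ h).counit.app M).hom.app (op ((Over.pullback h).obj W))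
        (((bigDir τ h).obj M).obj.map (piW h W).op x) = x := by
  show M.obj.map ((Over.mapPullbackAdj h).unit.app ((Over.pullback h).obj W)).op
    (M.obj.map ((Over.pullback h).map (piW h W)).op x) = x
  rw [← ConcreteCategory.comp_apply, ← Functor.map_comp, ← op_comp,
    Adjunction.right_triangle_components]
  exact ConcreteCategory.congr_hom (M.obj.map_id _) x

lemma psi_mk₀ {M : BAb τ Y} {W : Over X} (x : ((bigDir τ h).obj M).obj.obj (op W)) :
    psi h M (Ext.mk₀ ((lEquiv W _).symm x)) = Ext.mk₀ ((lEquiv ((Over.pullback h).obj W) M).symm x) := by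
  rw [psi, SiteCoh.extTransfer_mk₀, Ext.mk₀_comp_mk₀]
  congr 1
  apply (lEquiv _ _).injective
  rw [lEquiv_comp, lEquiv_fFree_comp, AddEquiv.apply_symm_apply]
  exact (counit_sections h x).trans ((lEquiv ((Over.pullback h).obj W) M).apply_symm_apply x).symm

/-- Classes upstairs die étale locally downstairs. -/
def LKill (M : BAb τ Y) (j : ℕ) : Prop :=
  ∀ (W : Over X) (η : Ext.{u + 1} (lFree (τ.over Y) ((Over.pullback h).obj W)) M j) (x : W.left),
    ∃ (W₀ : Over X) (g : W₀ ⟶ W) (w : W₀.left), Etale g.left ∧ g.left w = x ∧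
      resX ((Over.pullback h).map g) η = 0

set_option maxHeartbeats 800000 in
/-- A class on the target dies etale locally if its adjoint class does. -/
theorem etKill_of_psi : ∀ (k : ℕ) (M : BAb τ Y), (∀ j : ℕ, 1 ≤ j → j ≤ k → LKill h M j) →
    ∀ (W : Over X) (η : Ext.{u + 1} (lFree (τ.over X) W) ((bigDir τ h).obj M) (k + 1)),
      psi h M η = 0 → EtKill η := by
  intro k
  induction k with
  | zero => ?_
  | succ k ih => ?_
  all_goals
    intro M hM W η hη
    let I := Injective.under M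
    let T : ShortComplex (BAb τ Y) :=
      ShortComplex.mk (Injective.ι M) (cokernel.π (Injective.ι M)) (cokernel.condition _)
    have hT : T.ShortExact :=
      { exact := ShortComplex.exact_of_g_is_cokernel _ (cokernelIsCokernel (Injective.ι M))
        mono_f := inferInstanceAs (Mono (Injective.ι M))
        epi_g := inferInstanceAs (Epi (cokernel.π _)) }
    let Φ := bigDir τ h
    have : PreservesLimitsOfSize.{0, 0} Φ := (fResAdj τ h).rightAdjoint_preservesLimits
    have : PreservesFiniteLimits Φ := PreservesLimitsOfSize.preservesFiniteLimits _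
    obtain ⟨hTe, hTm⟩ : (T.map Φ).Exact ∧ Mono (Φ.map T.f) :=
      ⟨((Functor.preservesFiniteLimits_iff_forall_exact_map_and_mono Φ).1 inferInstance _ hT).1,
        ((Functor.preservesFiniteLimits_iff_forall_exact_map_and_mono Φ).1 inferInstance _ hT).2⟩
    let S : ShortComplex (BAb τ X) :=
      ShortComplex.mk (Φ.map T.f) (cokernel.π (Φ.map T.f)) (cokernel.condition _)
    have hS : S.ShortExact :=
      { exact := ShortComplex.exact_of_g_is_cokernel _ (cokernelIsCokernel (Φ.map T.f))
        mono_f := hTm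
        epi_g := inferInstanceAs (Epi (cokernel.π _)) }
    let j : S.X₃ ⟶ Φ.obj T.X₃ := cokernel.desc (Φ.map T.f) (Φ.map T.g) (T.map Φ).zero
    have : Mono j := hTe.mono_cokernelDesc
    have hqj : S.g ≫ j = Φ.map T.g := cokernel.π_desc _ _ _
    let θ : S.map (fRes τ h) ⟶ T :=
      { τ₁ := (fResAdj τ h).counit.app T.X₁
        τ₂ := (fResAdj τ h).counit.app T.X₂
        τ₃ := (fRes τ h).map j ≫ (fResAdj τ h).counit.app T.X₃
        comm₁₂ := ((fResAdj τ h).counit.naturality T.f).symm
        comm₂₃ := by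
          show (fResAdj τ h).counit.app T.X₂ ≫ T.g =
            (fRes τ h).map S.g ≫ (fRes τ h).map j ≫ (fResAdj τ h).counit.app T.X₃
          rw [← Category.assoc, ← Functor.map_comp, hqj]
          exact ((fResAdj τ h).counit.naturality T.g).symm }
    have hI : Injective S.X₂ := Injective.injective_of_adjoint (fResAdj τ h) I
    obtain ⟨s, rfl⟩ := Ext.covariant_sequence_exact₁ _ hS η
      ((Ext.subsingleton_of_injective _ S.X₂ _).elim _ _) rfl
    have hψ : psi h M (s.comp hS.extClass rfl) =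
        (psi h T.X₃ (s.comp (Ext.mk₀ j) (add_zero _))).comp hT.extClass rfl := by
      have e := (hS.map_of_exact (fRes τ h)).extClass_naturality hT θ
      rw [psi, psi, SiteCoh.extTransfer_comp, Ext.mapExactFunctor_extClass (fRes τ h) hS,
        fExt_comp, Ext.comp_assoc _ _ _ rfl (add_zero 1) (by omega)]
      refine (congrArg (fun q => Ext.comp _ q rfl) e).trans ?_
      rw [← Ext.comp_assoc _ _ _ (add_zero _) (zero_add 1) (by omega),
        Ext.comp_assoc _ _ _ (add_zero _) (add_zero 0) (by omega), Ext.mk₀_comp_mk₀]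
      rfl
    rw [hψ] at hη
    obtain ⟨t, ht⟩ := Ext.covariant_sequence_exact₃ _ hT _ rfl hη
  · -- degree one
    obtain ⟨φ, rfl⟩ := Ext.addEquiv₀.symm.surjective s
    obtain ⟨σ, rfl⟩ := (lEquiv W _).symm.surjective φ
    obtain ⟨ψ, rfl⟩ := Ext.addEquiv₀.symm.surjective t
    obtain ⟨i, rfl⟩ := (lEquiv _ _).symm.surjective ψ
    have ht' : (Ext.mk₀ ((lEquiv ((Over.pullback h).obj W) T.X₂).symm i)).comp (Ext.mk₀ T.g) (add_zero 0) =
        psi h T.X₃ ((Ext.mk₀ ((lEquiv W S.X₃).symm σ)).comp (Ext.mk₀ j) (add_zero 0)) := ht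
    rw [Ext.mk₀_comp_mk₀, Ext.mk₀_comp_mk₀, lEquiv_symm_comp, lEquiv_symm_comp, psi_mk₀] at ht'
    have hi : T.g.hom.app (op ((Over.pullback h).obj W)) i = j.hom.app (op W) σ :=
      (lEquiv ((Over.pullback h).obj W) T.X₃).symm.injective ((Ext.mk₀_bijective _ _).1 ht')
    have hjm : Function.Injective (j.hom.app (op W)) :=
      (AddCommGrpCat.mono_iff_injective _).1
        ((NatTrans.mono_iff_mono_app j.hom).1
          ((sheafToPresheaf (τ.over X) AddCommGrpCat.{u + 1}).map_mono j) (op W))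
    have hσ : σ = S.g.hom.app (op W) i := hjm (hi.symm.trans
      (congrArg (fun φ : S.X₂ ⟶ Φ.obj T.X₃ => φ.hom.app (op W) i) hqj).symm)
    refine etKill_of_eq_zero ?_
    show (Ext.mk₀ ((lEquiv W S.X₃).symm σ)).comp hS.extClass (zero_add 1) = 0
    rw [hσ, ← lEquiv_symm_comp, ← Ext.mk₀_comp_mk₀,
      Ext.comp_assoc _ _ _ (add_zero 0) (zero_add 1) (by omega), hS.comp_extClass, Ext.comp_zero]
  · -- higher degree
    have hsurj : Sheaf.IsLocallySurjective j := by
      refine ⟨fun {V} σ => mem_over_of_etale τ _ fun x => ?_⟩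
      let σ' : T.X₃.obj.obj (op ((Over.pullback h).obj V)) := σ
      let θ' := (Ext.mk₀ ((lEquiv ((Over.pullback h).obj V) T.X₃).symm σ')).comp hT.extClass (zero_add 1)
      obtain ⟨V₀, g, v, hg, hv, hz⟩ := hM 1 le_rfl (by omega) _ θ' x
      rw [resX_comp_ext, resX_mk₀] at hz
      obtain ⟨t₀, ht₀⟩ := Ext.covariant_sequence_exact₃ _ hT _ rfl hz
      obtain ⟨ψ₀, rfl⟩ := Ext.addEquiv₀.symm.surjective t₀
      obtain ⟨i₀, rfl⟩ := (lEquiv _ _).symm.surjective ψ₀
      have ht₀' : (Ext.mk₀ ((lEquiv ((Over.pullback h).obj V₀) T.X₂).symm i₀)).comp (Ext.mk₀ T.g) (add_zero 0) =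
        Ext.mk₀ ((lEquiv ((Over.pullback h).obj V₀) T.X₃).symm
          (T.X₃.obj.map ((Over.pullback h).map g).op σ')) := ht₀
      rw [Ext.mk₀_comp_mk₀, lEquiv_symm_comp] at ht₀'
      have hi := (lEquiv ((Over.pullback h).obj V₀) T.X₃).symm.injective ((Ext.mk₀_bijective _ _).1 ht₀')
      refine ⟨V₀, g, v, ⟨S.g.hom.app (op V₀) i₀, ?_⟩, hg, hv⟩
      refine (congrArg (fun φ : S.X₂ ⟶ Φ.obj T.X₃ => φ.hom.app (op V₀) i₀) hqj).trans ?_
      exact hi
    have : Epi j := (Sheaf.isLocallySurjective_iff_epi' AddCommGrpCat.{u + 1} j).1 hsurj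
    have : IsIso j := isIso_of_mono_of_epi j
    have h0 : psi h T.X₃ (s.comp (Ext.mk₀ j) (add_zero _)) = 0 := by
      rw [← ht, (Ext.subsingleton_of_injective _ I k).elim t 0, Ext.zero_comp]
    have hM' : ∀ i : ℕ, 1 ≤ i → i ≤ k → LKill h T.X₃ i := by
      intro i hi1 hi2 V α x
      obtain ⟨V', g, v, hg, hv, hz⟩ := hM (i + 1) (by omega) (by omega) V (α.comp hT.extClass rfl) x
      rw [resX_comp_ext] at hz
      obtain ⟨t', ht'⟩ := Ext.covariant_sequence_exact₃ _ hT (resX ((Over.pullback h).map g) α) rfl hz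
      refine ⟨V', g, v, hg, hv, ?_⟩
      obtain ⟨i, rfl⟩ := Nat.exists_eq_add_one.2 hi1
      rw [← ht', (Ext.subsingleton_of_injective _ I i).elim t' 0, Ext.zero_comp]
    intro x
    obtain ⟨W', g, w, hg, hw, hz⟩ := ih T.X₃ hM' W _ h0 x
    refine ⟨W', g, w, hg, hw, ?_⟩
    rw [resX_comp_ext] at hz
    have hs : resX g s = 0 := by
      have := congrArg (fun q => Ext.comp q (Ext.mk₀ (inv j)) (add_zero _)) hz
      rw [Ext.comp_assoc _ _ _ (add_zero _) (add_zero 0) (by omega), Ext.mk₀_comp_mk₀,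
        IsIso.hom_inv_id, Ext.comp_mk₀_id, Ext.zero_comp] at this
      exact this
    rw [resX_comp_ext, hs, Ext.zero_comp]


end Groth.Agent.HTop50.Big
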