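import Groth.Agent.HTop50.BigGerm
import Groth.Agent.Mod48.FppfRestrict
import Groth.Agent.Unr55.Et.PullExact
import Groth.Agent.EtCore45.Stalks

/-!
Restriction, exactness of the pullback and locally dying classes on the big site of a geometric topology
(after `Groth.Agent.Mod48.FppfRestrict` and `Groth.Agent.Mod48.FppfVanish`, which treat the fppf topology).
-/

universe u

open CategoryTheory CategoryTheory.Limits AlgebraicGeometry Opposite CategoryTheory.Abelian

namespace Groth.Agent.HTop50.Big

set_option backward.isDefEq.respectTransparency.types false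
set_option linter.unusedSectionVars false

open Unr55 (EtSh.germ EtSh.Pt EtSh.exists_germ_eq EtSh.stalk_map_germ)
open Mod48 (GSite GPt exists_gpt img lFree lMap lSec lEquiv lEquiv_apply lEquiv_comp lEquiv_lMap_comp
  lMap_comp_symm lMap_lSec resX resX_comp resX_zero resX_comp_ext resX_mk₀ lEquiv_symm_comp
  pushforward_injective)

variable (τ : GrothendieckTopology Scheme.{u}) [GeomTop τ]

/-- Abelian sheaves on the big site. -/
abbrev BAb (X : Scheme.{u}) : Type (u + 2) := Sheaf (τ.over X) AddCommGrpCat.{u + 1}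

instance (X : Scheme.{u}) : IsGrothendieckAbelian.{u + 1} (BAb τ X) := by
  have : EssentiallySmall.{u + 1} (Over X) := inferInstance
  exact Sheaf.isGrothendieckAbelian_of_essentiallySmall _ _

noncomputable instance (X : Scheme.{u}) : HasFiniteBiproducts (BAb τ X) :=
  HasFiniteBiproducts.of_hasFiniteProducts

instance bigCont (X : Scheme.{u}) : (EtFppf.a X).IsContinuous X.smallEtaleTopology (τ.over X) :=
  aCont τ X

/-- The adjunction of the big site with the small étale site. -/
noncomputable abbrev bigAdj (X : Scheme.{u}) :=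
  (EtFppf.a X).sheafAdjunctionContinuous AddCommGrpCat.{u + 1} X.smallEtaleTopology (τ.over X)

/-- Restriction to the small étale site. -/
noncomputable abbrev bigPush (X : Scheme.{u}) : BAb τ X ⥤ EtCoh.Ab X :=
  (EtFppf.a X).sheafPushforwardContinuous AddCommGrpCat.{u + 1} X.smallEtaleTopology (τ.over X)

instance (X : Scheme.{u}) : (bigPush τ X).Additive where

instance (X : Scheme.{u}) : (bigPull τ X).Additive := (bigAdj τ X).left_adjoint_additive

/-- Direct image on big sites. -/
noncomputable abbrev bigDir {X Y : Scheme.{u}} (f : X ⟶ Y) : BAb τ X ⥤ BAb τ Y :=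
  (Over.pullback f).sheafPushforwardContinuous AddCommGrpCat.{u + 1} (τ.over Y) (τ.over X)

instance {X Y : Scheme.{u}} (f : X ⟶ Y) : (bigDir τ f).Additive where

section Res

variable {S T : Scheme.{u}} (f : T ⟶ S)


/-- Restriction to the big site of `T`. -/
noncomputable abbrev fRes : BAb τ S ⥤ BAb τ T :=
  (Over.map f).sheafPushforwardContinuous AddCommGrpCat.{u + 1} (τ.over T) (τ.over S)

/-- Restriction is left adjoint to direct image. -/
noncomputable def fResAdj : fRes τ f ⊣ bigDir τ f :=
  (Over.mapPullbackAdj f).sheafPushforwardContinuous (τ.over T) (τ.over S)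

instance : (fRes τ f).Additive where

instance fRes_preservesFiniteColimits : PreservesFiniteColimits (fRes τ f) :=
  have : PreservesColimitsOfSize.{0, 0} (fRes τ f) := (fResAdj τ f).leftAdjoint_preservesColimits
  PreservesColimitsOfSize.preservesFiniteColimits _

instance fRes_preservesFiniteLimits : PreservesFiniteLimits (fRes τ f) := by
  have : PreservesLimitsOfSize.{0, 0} (fRes τ f) := (Adjunction.ofIsRightAdjoint (fRes τ f)).rightAdjoint_preservesLimits
  exact PreservesLimitsOfSize.preservesFiniteLimits _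

theorem fRes_injective (I : BAb τ S) [Injective I] : Injective ((fRes τ f).obj I) := by
  have h : ∀ (K : Type) [SmallCategory K] [IsConnected K], PreservesLimitsOfShape K (Over.map f) :=
    fun K _ _ => by
      have : PreservesLimitsOfShape K (Over.map f ⋙ Over.forget S) :=
        inferInstanceAs (PreservesLimitsOfShape K (Over.forget T))
      exact preservesLimitsOfShape_of_reflects_of_preserves (Over.map f) (Over.forget S)
  have := h WalkingCospan
  have := h WalkingParallelPair
  exact pushforward_injective (Over.map f) (τ.over T) (τ.over S) I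

/-- Restriction commutes with pullback from the small etale sites. -/
noncomputable def fResPullIso :
    bigPull τ S ⋙ fRes τ f ≅ EtCoh.pull f ⋙ bigPull τ T :=
  let ε : EtFppf.a S ⋙ Over.pullback f ≅ EtCoh.bc f ⋙ EtFppf.a T :=
    NatIso.ofComponents (fun V => Over.isoMk (Iso.refl _) (by exact Category.id_comp _))
      (fun g => by apply Over.OverMorphism.ext; exact (Category.comp_id _).trans (Category.id_comp _).symm)
  haveI : (EtCoh.bc f ⋙ EtFppf.a T).IsContinuous S.smallEtaleTopology (τ.over T) :=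
    Functor.isContinuous_comp _ _ _ T.smallEtaleTopology _
  let e : bigPush τ T ⋙ EtCoh.push f ≅ bigDir τ f ⋙ bigPush τ S :=
    Functor.sheafPushforwardContinuousComp' (Iso.refl (EtCoh.bc f ⋙ EtFppf.a T))
        AddCommGrpCat.{u + 1} S.smallEtaleTopology T.smallEtaleTopology (τ.over T) ≪≫
      (Functor.sheafPushforwardContinuousComp' ε
        AddCommGrpCat.{u + 1} S.smallEtaleTopology (τ.over S) (τ.over T)).symm
  (((bigAdj τ S).comp (fResAdj τ f)).leftAdjointUniq
    (((EtCoh.pullPushAdj f).comp (bigAdj τ T)).ofNatIsoRight e))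

/-- The section giving the comparison of free sheaves. -/
noncomputable def fFree {V : Over T} {W : Over S} (π : (Over.map f).obj V ⟶ W) :
    lFree (τ.over T) V ⟶ (fRes τ f).obj (lFree (τ.over S) W) :=
  (lEquiv V _).symm ((lFree (τ.over S) W).obj.map π.op (lSec (τ.over S) W))

lemma lEquiv_fFree_comp {V : Over T} {W : Over S} (π : (Over.map f).obj V ⟶ W) {G : BAb τ S}
    (φ : lFree (τ.over S) W ⟶ G) :
    lEquiv V _ (fFree τ f π ≫ (fRes τ f).map φ) = G.obj.map π.op (lEquiv W G φ) := by
  rw [lEquiv_comp, fFree, AddEquiv.apply_symm_apply]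
  exact NatTrans.naturality_apply φ.hom π.op _

/-- Restriction of classes to `T`. -/
noncomputable abbrev fExt {V : Over T} {W : Over S} (π : (Over.map f).obj V ⟶ W) (G : BAb τ S) (n : ℕ) :
    Ext.{u + 1} (lFree (τ.over S) W) G n →+ Ext.{u + 1} (lFree (τ.over T) V) ((fRes τ f).obj G) n :=
  SiteCoh.extTransfer (fRes τ f) (fFree τ f π) G n

lemma fExt_bijective (V : Over T) (G : BAb τ S) (n : ℕ) :
    Function.Bijective (fExt τ f (V := V) (𝟙 _) G n) := by
  refine SiteCoh.extTransfer_bijective _ _ (fun H => ?_) (fun I hI k => ?_) n G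
  · have e : (fun φ : lFree (τ.over S) ((Over.map f).obj V) ⟶ H => fFree τ f (𝟙 _) ≫ (fRes τ f).map φ) =
        (lEquiv V ((fRes τ f).obj H)).symm ∘ lEquiv ((Over.map f).obj V) H := by
      funext φ
      apply (lEquiv V ((fRes τ f).obj H)).injective
      rw [lEquiv_fFree_comp, Function.comp_apply, AddEquiv.apply_symm_apply, op_id,
        CategoryTheory.Functor.map_id]
      rfl
    rw [e]
    exact (lEquiv V _).symm.bijective.comp (lEquiv _ _).bijective
  · have := fRes_injective τ f I
    exact Ext.subsingleton_of_injective _ _ k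

lemma fExt_resX {V : Over T} {W W' : Over S} (π : (Over.map f).obj V ⟶ W') (g : W' ⟶ W)
    {G : BAb τ S} {n : ℕ} (ξ : Ext.{u + 1} (lFree (τ.over S) W) G n) :
    fExt τ f π G n (resX g ξ) = fExt τ f (π ≫ g) G n ξ := by
  have e : fFree τ f π ≫ (fRes τ f).map (lMap (τ.over S) g) = fFree τ f (π ≫ g) := by
    apply (lEquiv V _).injective
    rw [lEquiv_fFree_comp, fFree, AddEquiv.apply_symm_apply, lEquiv_apply, lMap_lSec,
      ← ConcreteCategory.comp_apply, ← Functor.map_comp, ← op_comp]
  rw [SiteCoh.extTransfer_apply, SiteCoh.extTransfer_apply, Ext.mapExactFunctor_comp,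
    Ext.mapExactFunctor_mk₀, ← Ext.comp_assoc _ _ _ (zero_add 0) (zero_add n) (by omega),
    Ext.mk₀_comp_mk₀, e]

lemma resX_fExt {V V' : Over T} {W : Over S} (π : (Over.map f).obj V ⟶ W) (g : V' ⟶ V)
    {G : BAb τ S} {n : ℕ} (ξ : Ext.{u + 1} (lFree (τ.over S) W) G n) :
    resX g (fExt τ f π G n ξ) = fExt τ f ((Over.map f).map g ≫ π) G n ξ := by
  have e : lMap (τ.over T) g ≫ fFree τ f π = fFree τ f ((Over.map f).map g ≫ π) := by
    rw [fFree, lMap_comp_symm]
    apply (lEquiv V' _).injective
    rw [AddEquiv.apply_symm_apply, fFree, AddEquiv.apply_symm_apply]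
    show (lFree (τ.over S) W).obj.map ((Over.map f).map g).op _ = _
    rw [← ConcreteCategory.comp_apply, ← Functor.map_comp, ← op_comp]
  rw [SiteCoh.extTransfer_apply, SiteCoh.extTransfer_apply, resX,
    ← Ext.comp_assoc _ _ _ (zero_add 0) (zero_add n) (by omega), Ext.mk₀_comp_mk₀, e]

lemma fExt_comp {V : Over T} {W : Over S} (π : (Over.map f).obj V ⟶ W) {G H : BAb τ S} {n : ℕ}
    (ξ : Ext.{u + 1} (lFree (τ.over S) W) G n) (φ : G ⟶ H) :
    fExt τ f π H n (ξ.comp (Ext.mk₀ φ) (add_zero n)) =
      (fExt τ f π G n ξ).comp (Ext.mk₀ ((fRes τ f).map φ)) (add_zero n) :=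
  SiteCoh.extTransfer_naturality _ _ ξ φ


end Res

section Exact

variable {X : Scheme.{u}}

/-- Values are natural in the sheaf. -/
lemma val_map_hom {F G : EtCoh.Ab X} (φ : F ⟶ G) {W : Over X}
    (t : ((bigPull τ X).obj F).obj.obj (op W)) (η : GPt X) (v : (bigGSite τ X).Pts η W) :
    (bigGSite τ X).val G η v (((bigPull τ X).map φ).hom.app (op W) t) =
      (EtCoh.stalk η.hom).map φ ((bigGSite τ X).val F η v t) := by
  obtain ⟨W', g, w, ⟨U, π, s, hs⟩, rfl⟩ :=
    (bigGSite τ X).exists_lift_pts ((bigGSite τ X).repSieve_mem F t) η v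
  have hn : ((bigPull τ X).map φ).hom.app (op ((EtFppf.a X).obj U))
        (GSite.etaSect (τ.over X) (EtFppf.a X) F s) =
      GSite.etaSect (τ.over X) (EtFppf.a X) G (φ.hom.app (op U) s) :=
    (congrArg (fun ψ : F ⟶ _ => ψ.hom.app (op U) s) ((bigAdj τ X).unit.naturality φ)).symm
  rw [← GSite.val_map, ← GSite.val_map, hs]
  refine (congrArg _ ((NatTrans.naturality_apply ((bigPull τ X).map φ).hom g.op t).symm.trans
    ((congrArg (((bigPull τ X).map φ).hom.app (op W')) hs).trans
      ((NatTrans.naturality_apply ((bigPull τ X).map φ).hom π.op _).trans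
        (congrArg _ hn))))).trans ?_
  rw [GSite.val_rep, GSite.val_rep]
  exact (EtSh.stalk_map_germ η.hom φ _ s).symm

/-- Pullback to the big fppf site preserves monomorphisms. -/
theorem mono_aPull_map {F G : EtCoh.Ab X} (φ : F ⟶ G) [Mono φ] : Mono ((bigPull τ X).map φ) := by
  have hinj : ∀ W, Function.Injective (((bigPull τ X).map φ).hom.app (op W)) := fun W =>
    (injective_iff_map_eq_zero (((bigPull τ X).map φ).hom.app (op W)).hom).2 fun t ht =>
      (bigGSite τ X).eq_zero_of_val F t fun η v => by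
        refine Unr55.EtSh.stalk_map_injective_of_mono φ η.hom ?_
        rw [← val_map_hom τ, map_zero]
        exact (congrArg _ ht).trans (map_zero _)
  have : Mono ((bigPull τ X).map φ).hom := by
    rw [NatTrans.mono_iff_mono_app]
    exact fun W => (AddCommGrpCat.mono_iff_injective _).2 (hinj W.unop)
  exact (sheafToPresheaf _ AddCommGrpCat.{u + 1}).mono_of_mono_map this

/-- Pullback to the big fppf site is exact. -/
theorem aPull_shortExact {S : ShortComplex (EtCoh.Ab X)} (hS : S.ShortExact) :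
    (S.map (bigPull τ X)).ShortExact := by
  have := (bigAdj τ X).left_adjoint_additive
  have : PreservesColimitsOfSize.{0, 0} (bigPull τ X) := (bigAdj τ X).leftAdjoint_preservesColimits
  have := PreservesColimitsOfSize.preservesFiniteColimits (bigPull τ X)
  obtain ⟨h1, h2⟩ := (Functor.preservesFiniteColimits_iff_forall_exact_map_and_epi (bigPull τ X)).1
    inferInstance S hS
  have := hS.mono_f
  exact { exact := h1, mono_f := mono_aPull_map τ S.f, epi_g := h2 }

/-- Along an epimorphism, sections lift etale locally. -/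
theorem exists_etale_lift {F G : EtCoh.Ab X} (φ : F ⟶ G) [Epi φ] {W : Over X}
    (t : ((bigPull τ X).obj G).obj.obj (op W)) (x : W.left) :
    ∃ (W' : Over X) (g : W' ⟶ W) (w : W'.left) (s : ((bigPull τ X).obj F).obj.obj (op W')),
      Etale g.left ∧ g.left w = x ∧
      ((bigPull τ X).map φ).hom.app (op W') s = ((bigPull τ X).obj G).obj.map g.op t := by
  obtain ⟨η, v, hv⟩ := exists_gpt ((bigGSite τ X).U.obj W) x
  obtain ⟨b, hb⟩ := EtCore45.stalk_map_surjective_of_epi η.hom φ ((bigGSite τ X).val G η v t)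
  obtain ⟨U₀, u₀, σ₀, rfl⟩ := EtSh.exists_germ_eq η.hom F b
  have : Etale U₀.hom := U₀.prop
  let vl : Spec (CommRingCat.of η.k) ⟶ W.left := v.left
  let ul : Spec (CommRingCat.of η.k) ⟶ U₀.left := u₀.left
  have hvu : vl ≫ W.hom = ul ≫ U₀.hom := (Over.w v).trans (Over.w u₀).symm
  let W₁ : Over X := Over.mk (pullback.fst W.hom U₀.hom ≫ W.hom)
  let q : W₁ ⟶ W := Over.homMk (pullback.fst W.hom U₀.hom) rfl
  let π : W₁ ⟶ (EtFppf.a X).obj U₀ := Over.homMk (pullback.snd W.hom U₀.hom) pullback.condition.symm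
  let v₁ : (bigGSite τ X).Pts η W₁ := Over.homMk (pullback.lift vl ul hvu) (by
    show pullback.lift vl ul hvu ≫ pullback.fst W.hom U₀.hom ≫ W.hom = η.hom
    rw [pullback.lift_fst_assoc]
    exact Over.w v)
  have hq : v₁ ≫ (bigGSite τ X).U.map q = v := Over.OverMorphism.ext (pullback.lift_fst _ _ _)
  have hπ : (v₁ ≫ (bigGSite τ X).unE π : EtSh.Pt η.hom U₀) = u₀ := by
    apply Over.OverMorphism.ext
    show pullback.lift vl ul hvu ≫ pullback.snd W.hom U₀.hom ≫ 𝟙 _ = ul
    rw [Category.comp_id, pullback.lift_snd]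
  let σ : ((bigPull τ X).obj F).obj.obj (op W₁) :=
    ((bigPull τ X).obj F).obj.map π.op (GSite.etaSect (τ.over X) (EtFppf.a X) F σ₀)
  let d : ((bigPull τ X).obj G).obj.obj (op W₁) :=
    ((bigPull τ X).map φ).hom.app (op W₁) σ - ((bigPull τ X).obj G).obj.map q.op t
  have hd : (bigGSite τ X).val G η v₁ d = 0 := by
    refine (map_sub _ _ _).trans (sub_eq_zero.2 ?_)
    rw [val_map_hom, GSite.val_rep, hπ, hb, GSite.val_map]
    exact (congrArg (fun w => (bigGSite τ X).val G η w t) hq).symm
  let O : W₁.left.Opens := ⟨(bigGSite τ X).locusSet G d, (bigGSite τ X).isOpen_locusSet G d⟩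
  let W₂ : Over X := Over.mk (O.ι ≫ W₁.hom)
  let o : W₂ ⟶ W₁ := Over.homMk O.ι rfl
  have hz : ((bigPull τ X).obj G).obj.map o.op d = 0 := by
    refine (bigGSite τ X).eq_zero_of_val G _ fun ζ u => ?_
    rw [GSite.val_map, ← GSite.mem_locusSet_iff]
    exact ((img u : O.toScheme)).2
  let xp : W₁.left := img (η := η) (Y := (bigGSite τ X).U.obj W₁) v₁
  have hx : xp ∈ O := ((bigGSite τ X).mem_locusSet_iff G d η v₁).2 hd
  refine ⟨W₂, o ≫ q, (⟨xp, hx⟩ : O.toScheme), ((bigPull τ X).obj F).obj.map o.op σ, ?_, ?_, ?_⟩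
  · show Etale (O.ι ≫ pullback.fst W.hom U₀.hom)
    infer_instance
  · exact (congrArg (fun r : (bigGSite τ X).Pts η W => img r) hq).trans hv
  · rw [op_comp, Functor.map_comp, ConcreteCategory.comp_apply]
    exact (NatTrans.naturality_apply ((bigPull τ X).map φ).hom o.op σ).trans
      (sub_eq_zero.1 ((map_sub _ _ _).symm.trans hz))

lemma hom_top_ext {W : Over X} (a b : W ⟶ Over.mk (𝟙 X)) : a = b :=
  Over.OverMorphism.ext ((Category.comp_id _).symm.trans ((Over.w a).trans
    ((Over.w b).symm.trans (Category.comp_id _))))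

end Exact

section Kill

variable {τ}

variable {X : Scheme.{u}}

/-- The class dies etale locally. -/
def EtKill {G : BAb τ X} {W : Over X} {n : ℕ} (ξ : Ext.{u + 1} (lFree (τ.over X) W) G n) : Prop :=
  ∀ x : W.left, ∃ (W' : Over X) (g : W' ⟶ W) (w : W'.left), Etale g.left ∧ g.left w = x ∧ resX g ξ = 0

/-- All classes of a degree die etale locally. -/
def Acy (G : BAb τ X) (n : ℕ) : Prop :=
  ∀ (W : Over X) (ξ : Ext.{u + 1} (lFree (τ.over X) W) G n), EtKill ξ

lemma etKill_of_eq_zero {G : BAb τ X} {W : Over X} {n : ℕ}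
    {ξ : Ext.{u + 1} (lFree (τ.over X) W) G n} (h : ξ = 0) : EtKill ξ := fun x =>
  ⟨W, 𝟙 W, x, (inferInstance : Etale (𝟙 W.left)), rfl, by rw [h]; exact resX_zero _⟩

lemma etKill_of_local {G : BAb τ X} {W : Over X} {n : ℕ} {ξ : Ext.{u + 1} (lFree (τ.over X) W) G n}
    (h : ∀ x : W.left, ∃ (W' : Over X) (g : W' ⟶ W) (w : W'.left),
      Etale g.left ∧ g.left w = x ∧ EtKill (resX g ξ)) : EtKill ξ := fun x => by
  obtain ⟨W', g, w, hg, hw, hk⟩ := h x
  obtain ⟨W'', g', w', hg', hw', hz⟩ := hk w
  refine ⟨W'', g' ≫ g, w', ?_, ?_, by rw [resX_comp]; exact hz⟩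
  · show Etale (g'.left ≫ g.left)
    infer_instance
  · show g.left (g'.left w') = x
    rw [hw', hw]

lemma etKill_sieve_mem {G : BAb τ X} {W : Over X} {n : ℕ} {ξ : Ext.{u + 1} (lFree (τ.over X) W) G n}
    (h : EtKill ξ) :
    ({ arrows := fun _ g => resX g ξ = 0
       downward_closed := fun {V V' g} hg k => by rw [resX_comp, hg]; exact resX_zero _ } : Sieve W) ∈
      τ.over X W := mem_over_of_etale τ _ fun x => by
  obtain ⟨W', g, w, hg, hw, hz⟩ := h x
  exact ⟨W', g, w, hz, hg, hw⟩

end Kill

end Groth.Agent.HTop50.Big
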