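import Groth.Agent.HTop50.GeomTop

/-!
Covering sieves of topologies coarser than the ph topology are refined, locally on the base, by a proper
surjective morphism followed by an open covering.
-/

set_option autoImplicit false

universe u

open CategoryTheory CategoryTheory.Limits AlgebraicGeometry

namespace Groth.Agent.HTop50

/-- The family of all members of a sieve. -/
noncomputable def sieveFam {X : Scheme.{u}} (S : Sieve X) : PreZeroHypercover.{u + 1} X where
  I₀ := {Y : Over X // S.arrows Y.hom}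
  X Y := Y.1.left
  f Y := Y.1.hom

theorem LocRef.sieveFam_of_mem {X : Scheme.{u}} {E : PreZeroHypercover.{u + 1} X} (hE : LocRef E)
    {S : Sieve X} (h : ∀ i, S.arrows (E.f i)) : LocRef (sieveFam S) := fun z => by
  obtain ⟨W, j, P, q, hj, hz, hq, hq', hf⟩ := hE z
  refine ⟨W, j, P, q, hj, hz, hq, hq', fun p => ?_⟩
  obtain ⟨O, o, i, k, ho, hp, hk⟩ := hf p
  exact ⟨O, o, ⟨Over.mk (E.f i), h i⟩, k, ho, hp, hk⟩

theorem locRef_sieveFam_top (X : Scheme.{u}) : LocRef (sieveFam (⊤ : Sieve X)) := fun z =>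
  ⟨X, 𝟙 X, X, 𝟙 X, inferInstance, ⟨z, rfl⟩, inferInstance, inferInstance, fun p =>
    ⟨X, 𝟙 X, ⟨Over.mk (𝟙 X), trivial⟩, 𝟙 X, inferInstance, ⟨p, rfl⟩, by simp [sieveFam]⟩⟩

/-- Covering sieves of the ph topology are refined by proper surjective morphisms and open coverings. -/
theorem locRef_of_mem_phTopology {X : Scheme.{u}} {S : Sieve X} (hS : S ∈ HTop.phTopology X) :
    LocRef (sieveFam S) := by
  suffices h : ∀ {Y : Scheme.{u}} (f : Y ⟶ X), LocRef (sieveFam (S.pullback f)) by simpa using h (𝟙 X)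
  change HTop.phPrecoverage.Saturate X S at hS
  induction hS with
  | of X R hR =>
    intro Y f
    obtain ⟨ι, Z, p, rfl⟩ := R.exists_eq_ofArrows
    have hR' := (HTop.presieve₀_mem_phPrecoverage_iff (PreZeroHypercover.mk ι Z p)).1 hR
    refine ((locRef_of_isPhCover hR').pullback f).sieveFam_of_mem fun i => ?_
    exact ⟨Z i, pullback.snd f (p i), p i, ⟨i⟩, pullback.condition.symm⟩
  | top X => intro Y f; simpa using locRef_sieveFam_top Y
  | pullback X S _ Y g ih => intro Z f; rw [← Sieve.pullback_comp]; exact ih _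
  | transitive X S R _ _ ih₁ ih₂ =>
    intro Y f
    refine ((ih₁ f).bind (F := fun (i : {Z : Over Y // (S.pullback f).arrows Z.hom}) => sieveFam ((R.pullback f).pullback i.1.hom))
      fun i => ?_).sieveFam_of_mem ?_
    · let i' : {Z : Over Y // (S.pullback f).arrows Z.hom} := i
      have h := ih₂ (f := i'.1.hom ≫ f) i'.2 (𝟙 _)
      rw [Sieve.pullback_id, Sieve.pullback_comp] at h
      exact h
    · rintro ⟨i, k⟩
      exact k.2

/-- Every h covering presieve is a ph covering presieve. -/
theorem hTopology_le_phTopology : HTop.hTopology.{u} ≤ HTop.phTopology.{u} := by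
  refine Precoverage.toGrothendieck_mono fun X R hR => ?_
  obtain ⟨ι, Z, p, rfl⟩ := R.exists_eq_ofArrows
  have hR' := (HTop.presieve₀_mem_hPrecoverage_iff (PreZeroHypercover.mk ι Z p)).1 hR
  exact (HTop.presieve₀_mem_phPrecoverage_iff (PreZeroHypercover.mk ι Z p)).2
    ((S8976.result _ hR'.1).2 hR'.2)

end Groth.Agent.HTop50
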