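import Groth.Agent.HTop50.Tor.Acyclic
import Groth.Agent.HTop50.Tor.BigLeray
import Groth.Agent.EtCore45.HpullUH

/-!
Global classes on the big site of the source of a proper morphism die étale locally on the target when the
higher direct images vanish.
-/

universe u

open CategoryTheory CategoryTheory.Limits AlgebraicGeometry Opposite CategoryTheory.Abelian

namespace Groth.Agent.HTop50.Big

set_option backward.isDefEq.respectTransparency.types false
set_option linter.unusedSectionVars false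

open Mod48 (GSite lFree lMap lSec lEquiv lEquiv_comp lEquiv_symm_comp resX resX_comp resX_zero
  resX_comp_ext resX_mk₀)

variable {τ : GrothendieckTopology Scheme.{u}} [GeomTop τ]

/-- Along an epimorphism of small étale sheaves, sections lift locally. -/
theorem exists_local_lift {X : Scheme.{u}} {F G : EtCoh.Ab X} (φ : F ⟶ G) [Epi φ] {U : X.Etale}
    (σ : EtCoh.sect G U) (x : U.left) :
    ∃ (V : X.Etale) (g : V ⟶ U) (v : V.left) (t : EtCoh.sect F V),
      g.left v = x ∧ φ.hom.app (op V) t = G.obj.map g.op σ := by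
  have : Sheaf.IsLocallySurjective φ :=
    (Sheaf.isLocallySurjective_iff_epi' AddCommGrpCat.{u + 1} φ).2 inferInstance
  have hS : ∃ Sv : Sieve U, Sv = Presheaf.imageSieve φ.hom σ ∧ Sv ∈ X.smallEtaleTopology U :=
    ⟨_, rfl, Presheaf.imageSieve_mem X.smallEtaleTopology φ.hom σ⟩
  obtain ⟨Sv, hSv, hS⟩ := hS
  have e : X.smallEtaleTopology =
      (X.smallPretopology (P := EtCoh.etaleMP) (Q := EtCoh.etaleMP)).toGrothendieck :=
    Scheme.smallGrothendieckTopology_eq_toGrothendieck_smallPretopology X le_rfl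
  rw [e] at hS
  obtain ⟨V, g, v, hg, -, hv⟩ := (Scheme.mem_toGrothendieck_smallPretopology U _).1 hS x
  subst hSv
  obtain ⟨t, ht⟩ := hg
  exact ⟨V, g, v, t, hv, ht⟩

theorem subsingleton_H_of_qcAcyclic {P : Scheme.{u}} [CompactSpace P] [QuasiSeparatedSpace P]
    {T : EtCoh.Ab P} (hT : Tor.QcAcyclic T) (n : ℕ) : Subsingleton (EtCoh.H P T (n + 1)) := by
  have := Unr55.EtSh.preservesFiniteLimits_pull (𝟙 P)
  have : Subsingleton (EtCoh.H P ((EtCoh.pull (𝟙 P)).obj T) (n + 1)) :=
    hT (EtCoh.top P) (inferInstanceAs (CompactSpace P)) (inferInstanceAs (QuasiSeparatedSpace P))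
      (n + 1) n.succ_pos
  exact (EtCore45.Hpull_bijective_uh (𝟙 P) T (n + 1)).1.subsingleton

/-- The map to the final object. -/
noncomputable abbrev toTopBc {P W : Scheme.{u}} (p : P ⟶ W) (V : W.Etale) :
    (EtCoh.bc p).obj V ⟶ EtCoh.top P := (Unr55.EtSh.isTerminalTop P).from _

/-- A class dies étale locally on the target. -/
def DiesOn {P W : Scheme.{u}} (p : P ⟶ W) {M : BAb τ P} {n : ℕ}
    (ξ : Ext.{u + 1} (lFree (τ.over P) (bTop P)) M n) : Prop :=
  ∀ x : W, ∃ (V : W.Etale) (v : V.left), V.hom v = x ∧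
    resX ((EtFppf.a P).map (toTopBc p V)) ξ = 0

set_option maxHeartbeats 1000000 in
/-- Global classes of sheaves without higher direct images die étale locally on an affine target, given
that classes of torsion sheaves die étale locally on the source. -/
theorem diesOn_of_isZero_Rpush {P W : Scheme.{u}} (p : P ⟶ W) [IsProper p] [IsAffine W] :
    ∀ (j : ℕ) (G : EtCoh.Ab P), EtCoh.IsTorsion G →
      (∀ (E : EtCoh.Ab P), EtCoh.IsTorsion E → ∀ i, 1 ≤ i → i ≤ j + 1 → EtAcy ((bigPull τ P).obj E) i) →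
      (∀ i, i ≤ j → IsZero ((EtCoh.Rpush p (i + 1)).obj G)) →
      ∀ ξ : Ext.{u + 1} (lFree (τ.over P) (bTop P)) ((bigPull τ P).obj G) (j + 1), DiesOn p ξ := by
  have : CompactSpace P := QuasiCompact.compactSpace_of_compactSpace p
  have : QuasiSeparatedSpace P := quasiSeparatedSpace_of_quasiSeparated p
  intro j
  induction j with
  | zero => ?_
  | succ j ih => ?_
  all_goals
    intro G hG hA hR ξ
    obtain ⟨T, v, hv, hT, hTa⟩ := Tor.exists_torsion_qcAcyclic hG
    let S : ShortComplex (EtCoh.Ab P) := ShortComplex.mk v (cokernel.π v) (cokernel.condition _)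
    have hS : S.ShortExact :=
      { exact := ShortComplex.exact_of_g_is_cokernel _ (cokernelIsCokernel v)
        mono_f := hv
        epi_g := inferInstanceAs (Epi (cokernel.π _)) }
    have hS' := aPull_shortExact τ hS
    obtain ⟨Δ⟩ := RD97.nonempty_derivedLES (EtCoh.push p)
  · have h0 : ξ.comp (Ext.mk₀ (S.map (bigPull τ P)).f) (add_zero 1) = 0 :=
      eq_zero_of_etKill T 0 (fun j h1 h2 => absurd h2 (by omega)) (subsingleton_H_of_qcAcyclic hTa 0) _
        (hA T hT 1 le_rfl le_rfl (EtCoh.top P) _)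
    obtain ⟨s, hs⟩ := Ext.covariant_sequence_exact₁ _ hS' ξ h0 rfl
    obtain ⟨ψ, rfl⟩ := Ext.addEquiv₀.symm.surjective s
    obtain ⟨σ, rfl⟩ := (lEquiv (bTop P) _).symm.surjective ψ
    have := (bigGSite τ P).isIso_unit S.X₃
    obtain ⟨q, hq⟩ : ∃ q : EtCoh.sect S.X₃ (EtCoh.top P),
        ((bigAdj τ P).unit.app S.X₃).hom.app (op (EtCoh.top P)) q = σ :=
      ((ConcreteCategory.isIso_iff_bijective _).1 (inferInstanceAs
        (IsIso (((sheafToPresheaf _ AddCommGrpCat.{u + 1}).map ((bigAdj τ P).unit.app S.X₃)).app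
          (op (EtCoh.top P)))))).2 σ
    have : PreservesLimitsOfSize.{0, 0} (EtCoh.push p) := (EtCoh.pullPushAdj p).rightAdjoint_preservesLimits
    have : PreservesFiniteLimits (EtCoh.push p) := PreservesLimitsOfSize.preservesFiniteLimits _
    have : Epi ((EtCoh.push p).map S.g) := by
      have hz : IsZero ((EtCoh.Rpush p 1).obj S.X₁) := hR 0 le_rfl
      have : Epi (((EtCoh.push p).rightDerived 0).map S.g) :=
        (Δ.exact₃ S hS 0 1 rfl).epi_f (hz.eq_of_tgt _ _)
      have hn := (EtCoh.push p).rightDerivedZeroIsoSelf.hom.naturality S.g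
      rw [← cancel_epi ((EtCoh.push p).rightDerivedZeroIsoSelf.inv.app S.X₂), Iso.inv_hom_id_app_assoc] at hn
      rw [← hn]
      infer_instance
    intro x
    let q₀ : EtCoh.sect ((EtCoh.push p).obj S.X₃) (EtCoh.top W) :=
      S.X₃.obj.map (toTopBc p (EtCoh.top W)).op q
    obtain ⟨V, g, w, t, hw, ht⟩ := exists_local_lift ((EtCoh.push p).map S.g) q₀ x
    refine ⟨V, w, ?_, ?_⟩
    · rw [← hw]
      exact congrArg (fun φ : V.left ⟶ W => φ w) ((Over.w g.hom).symm.trans (Category.comp_id _))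
    · have ht' : S.g.hom.app (op ((EtCoh.bc p).obj V)) t = S.X₃.obj.map (toTopBc p V).op q := by
        refine ht.trans ?_
        show S.X₃.obj.map ((EtCoh.bc p).map g).op (S.X₃.obj.map (toTopBc p (EtCoh.top W)).op q) = _
        rw [← ConcreteCategory.comp_apply, ← Functor.map_comp, ← op_comp]
        exact congrArg (fun k => S.X₃.obj.map (Quiver.Hom.op k) q) ((Unr55.EtSh.isTerminalTop P).hom_ext _ _)
      let i : ((bigPull τ P).obj S.X₂).obj.obj (op ((EtFppf.a P).obj ((EtCoh.bc p).obj V))) :=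
        ((bigAdj τ P).unit.app S.X₂).hom.app (op ((EtCoh.bc p).obj V)) t
      have hi : ((bigPull τ P).map S.g).hom.app (op ((EtFppf.a P).obj ((EtCoh.bc p).obj V))) i =
          ((bigPull τ P).obj S.X₃).obj.map ((EtFppf.a P).map (toTopBc p V)).op σ := by
        refine (congrArg (fun k : S.X₂ ⟶ (bigPush τ P).obj ((bigPull τ P).obj S.X₃) =>
          k.hom.app (op ((EtCoh.bc p).obj V)) t) ((bigAdj τ P).unit.naturality S.g).symm).trans ?_
        refine (congrArg (((bigAdj τ P).unit.app S.X₃).hom.app _) ht').trans ?_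
        rw [← hq]
        exact NatTrans.naturality_apply ((bigAdj τ P).unit.app S.X₃).hom (toTopBc p V).op q
      rw [← hs]
      show resX _ (Ext.comp (Ext.mk₀ _) _ (zero_add 1)) = 0
      rw [resX_comp_ext, resX_mk₀]
      refine (congrArg (fun r => Ext.comp (Ext.mk₀ ((lEquiv _ (S.map (bigPull τ P)).X₃).symm r))
        hS'.extClass (zero_add 1)) hi.symm).trans ?_
      refine (congrArg (fun k => Ext.comp (Ext.mk₀ k) hS'.extClass (zero_add 1))
        (lEquiv_symm_comp i ((bigPull τ P).map S.g)).symm).trans ?_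
      show (Ext.mk₀ ((lEquiv _ (S.map (bigPull τ P)).X₂).symm i ≫ (S.map (bigPull τ P)).g)).comp
        hS'.extClass (zero_add 1) = 0
      rw [← Ext.mk₀_comp_mk₀, Ext.comp_assoc _ _ _ (add_zero 0) (zero_add 1) (by omega), hS'.comp_extClass,
        Ext.comp_zero]
  · have h0 : ξ.comp (Ext.mk₀ (S.map (bigPull τ P)).f) (add_zero _) = 0 :=
      eq_zero_of_etKill T (j + 1) (fun i h1 h2 => hA T hT i h1 (by omega))
        (subsingleton_H_of_qcAcyclic hTa (j + 1)) _
        (hA T hT (j + 1 + 1) (by omega) le_rfl (EtCoh.top P) _)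
    obtain ⟨s, hs⟩ := Ext.covariant_sequence_exact₁ _ hS' ξ h0 rfl
    have hQ : EtCoh.IsTorsion S.X₃ := Cons51.isTorsion_of_epi S.g hT
    have hRQ : ∀ i, i ≤ j → IsZero ((EtCoh.Rpush p (i + 1)).obj S.X₃) := fun i hi =>
      (Δ.exact₃ S hS (i + 1) (i + 1 + 1) rfl).isZero_X₂
        ((Tor.isZero_Rpush_of_qcAcyclic p i T hTa).eq_of_src _ _) ((hR (i + 1) (by omega)).eq_of_tgt _ _)
    intro x
    obtain ⟨V, w, hw, hz⟩ := ih S.X₃ hQ (fun E hE i h1 h2 => hA E hE i h1 (by omega)) hRQ s x
    refine ⟨V, w, hw, ?_⟩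
    refine (congrArg (resX _) hs).symm.trans ?_
    refine (resX_comp_ext _ s hS'.extClass rfl).trans ?_
    exact (congrArg (fun q => Ext.comp q hS'.extClass rfl) hz).trans (Ext.zero_comp _ _ hS'.extClass _ rfl)

end Groth.Agent.HTop50.Big
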