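import Groth.Agent.HTop50.GeomTop

/-!
The étale topology is geometric and is coarser than every geometric topology.
-/

set_option autoImplicit false

universe u

open CategoryTheory CategoryTheory.Limits AlgebraicGeometry

namespace Groth.Agent.HTop50

theorem etaleTopology_le (τ : GrothendieckTopology Scheme.{u}) [GeomTop τ] :
    Scheme.etaleTopology.{u} ≤ τ := by
  intro X S hS
  obtain ⟨R₀, hR₀, hle⟩ := Precoverage.mem_toGrothendieck_iff_of_isStableUnderComposition.1 hS
  obtain ⟨ι, Z, f, rfl⟩ := R₀.exists_eq_ofArrows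
  obtain ⟨hsur, het⟩ := (Scheme.ofArrows_mem_precoverage_iff _).1 hR₀
  choose i y hy using hsur
  refine τ.superset_covering ?_ (GeomTop.mem_of_etale (τ := τ) (fun x => Z (i x)) (fun x => f (i x))
    (fun x => het (i x)) fun x => ⟨x, y x, hy x⟩)
  rw [Sieve.ofArrows, Sieve.generate_le_iff]
  rintro W g ⟨x⟩
  exact hle _ _ ⟨i x⟩

instance geomTop_etale : GeomTop Scheme.etaleTopology.{u} where
  mem_of_etale Y f hf hs :=
    Precoverage.generate_mem_toGrothendieck ((Scheme.ofArrows_mem_precoverage_iff _).2 ⟨hs, hf⟩)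
  geomSieve hS := GeomTop.geomSieve (etaleTopology_le HTop.phTopology _ hS)

end Groth.Agent.HTop50
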