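import Groth.Agent.HTop50.Tor.Rows
import Groth.Agent.FlatMor67.FppfPh

/-!
The fppf topology is a geometric topology coarser than the ph topology.
-/

set_option autoImplicit false

universe u

open CategoryTheory CategoryTheory.Limits AlgebraicGeometry

namespace Groth.Agent.HTop50

theorem fppfTopology_le_phTopology : Scheme.fppfTopology.{u} ≤ HTop.phTopology.{u} := by
  refine Precoverage.toGrothendieck_mono fun X R hR => ?_
  obtain ⟨ι, Z, p, rfl⟩ := R.exists_eq_ofArrows
  obtain ⟨hs, hP⟩ := (Scheme.ofArrows_mem_precoverage_iff _).1 hR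
  exact (HTop.presieve₀_mem_phPrecoverage_iff (PreZeroHypercover.mk ι Z p)).2
    (FlatMor67.FppfPh.isPhCover (PreZeroHypercover.mk ι Z p) (fun i => (hP i).1) (fun i => (hP i).2)
      fun t => by
        obtain ⟨i, y, hy⟩ := hs t
        exact ⟨i, y, hy⟩)

instance geomTop_fppf : GeomTop Scheme.fppfTopology.{u} where
  mem_of_etale Y f hf hs :=
    Precoverage.generate_mem_toGrothendieck ((Scheme.ofArrows_mem_precoverage_iff _).2 ⟨hs, fun i => by
      have := hf i
      exact ⟨inferInstance, inferInstance⟩⟩)
  geomSieve hS := GeomTop.geomSieve (fppfTopology_le_phTopology _ hS)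

/-- Pullback to the big fppf site commutes with higher direct images along proper morphisms, for torsion
sheaves, given proper base change. -/
theorem nonempty_Rpush_iso_fppf (hpbc : Tor.ProperBC.{u}) {X Y : Scheme.{u}} (f : X ⟶ Y) [IsProper f]
    [EtFppf.ACont X] [EtFppf.ACont Y] (F : EtCoh.Ab X) (hF : EtCoh.IsTorsion F) (i : ℕ) :
    Nonempty ((EtFppf.aPull Y).obj ((EtCoh.Rpush f i).obj F) ≅
      (EtFppf.RpushBig f i).obj ((EtFppf.aPull X).obj F)) :=
  Big.nonempty_Rpush_iso (τ := Scheme.fppfTopology) hpbc fppfTopology_le_phTopology f i F hF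

end Groth.Agent.HTop50
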