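import Groth.Agent.HTop50.Tor.Die
import Groth.Agent.HTop50.Tor.BigPsi
import Groth.Agent.HTop50.Tor.BaseChange

/-!
Classes upstairs along a proper morphism die étale locally downstairs.
-/

universe u

open CategoryTheory CategoryTheory.Limits AlgebraicGeometry Opposite CategoryTheory.Abelian

namespace Groth.Agent.HTop50.Big

set_option backward.isDefEq.respectTransparency.types false
set_option linter.unusedSectionVars false

open Mod48 (GSite lFree lMap lSec lEquiv lEquiv_comp lEquiv_symm_comp resX resX_comp resX_zero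
  resX_comp_ext resX_mk₀)

variable (τ : GrothendieckTopology Scheme.{u}) [GeomTop τ]

/-- Classes of torsion sheaves of degrees up to `n` die étale locally, on all schemes. -/
def AcyUpTo (n : ℕ) : Prop :=
  ∀ (Y : Scheme.{u}) (E : EtCoh.Ab Y), EtCoh.IsTorsion E → ∀ j, 1 ≤ j → j ≤ n →
    Acy ((bigPull τ Y).obj E) j

variable {τ} (hpbc : Tor.ProperBC.{u})
include hpbc

/-- Vanishing of higher direct images along the projection of a pullback. -/
theorem isZero_Rpush_fst {Y X W : Scheme.{u}} (h : Y ⟶ X) [IsProper h] (f : W ⟶ X)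
    {E : EtCoh.Ab Y} (hE : EtCoh.IsTorsion E) (j : ℕ) (hz : IsZero ((EtCoh.Rpush h j).obj E)) :
    IsZero ((EtCoh.Rpush (pullback.fst f h) j).obj ((EtCoh.pull (pullback.snd f h)).obj E)) :=
  Tor.isZero_Rpush_baseChange hpbc (IsPullback.of_hasPullback f h).flip hE j hz

set_option maxHeartbeats 1000000 in
/-- Classes upstairs die étale locally downstairs. -/
theorem lKill_of_acyUpTo (n : ℕ) (hA : AcyUpTo τ n) {X Y : Scheme.{u}} (h : Y ⟶ X) [IsProper h]
    {E : EtCoh.Ab Y} (hE : EtCoh.IsTorsion E) (hR : ∀ q, IsZero ((EtCoh.Rpush h (q + 1)).obj E))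
    (j : ℕ) (hj : 1 ≤ j) (hjn : j ≤ n) : LKill h ((bigPull τ Y).obj E) j := by
  obtain ⟨k, rfl⟩ := Nat.exists_eq_add_one.2 hj
  intro W η x
  obtain ⟨_, ⟨A, hA', rfl⟩, hxA, -⟩ := W.left.isBasis_affineOpens.exists_subset_of_mem_open
    (Set.mem_univ x) isOpen_univ
  let O : W.left.Opens := A
  have : IsAffine O.toScheme := hA'
  let W₁ : Over X := Over.mk (O.ι ≫ W.hom)
  let o : W₁ ⟶ W := Over.homMk O.ι rfl
  let f : O.toScheme ⟶ X := W₁.hom
  let pr : pullback f h ⟶ Y := pullback.snd f h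
  let p : pullback f h ⟶ O.toScheme := pullback.fst f h
  let π : (Over.map pr).obj (bTop (pullback f h)) ⟶ (Over.pullback h).obj W₁ :=
    Over.homMk (𝟙 _) ((Category.id_comp _).trans (Category.id_comp _).symm)
  let η₁ := resX ((Over.pullback h).map o) η
  let e : (fRes τ pr).obj ((bigPull τ Y).obj E) ≅
      (bigPull τ (pullback f h)).obj ((EtCoh.pull pr).obj E) := (fResPullIso τ pr).app E
  let ξ := (fExt τ pr π _ (k + 1) η₁).comp (Ext.mk₀ e.hom) (add_zero _)
  have hG := Cons51.isTorsion_pull pr hE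
  obtain ⟨V, v, hv, hz⟩ := diesOn_of_isZero_Rpush p k _ hG
    (fun E' hE' i h1 h2 => etAcy_of_acy (hA _ E' hE' i h1 (by omega)))
    (fun i _ => isZero_Rpush_fst hpbc h f hE (i + 1) (hR i)) ξ (⟨x, hxA⟩ : O.toScheme)
  let W₀ : Over X := Over.mk (V.hom ≫ f)
  let g₀ : W₀ ⟶ W₁ := Over.homMk V.hom rfl
  let Q : Over (pullback f h) := (EtFppf.a _).obj ((EtCoh.bc p).obj V)
  let t : Q ⟶ bTop (pullback f h) := (EtFppf.a _).map (toTopBc p V)
  let ψ : (Over.pullback h).obj W₀ ⟶ (Over.map pr).obj Q :=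
    Over.homMk (pullback.lift (pullback.fst (V.hom ≫ f) h)
      (pullback.lift (pullback.fst (V.hom ≫ f) h ≫ V.hom) (pullback.snd (V.hom ≫ f) h)
        (by rw [Category.assoc]; exact pullback.condition)) (pullback.lift_fst _ _ _).symm) (by
      show pullback.lift _ _ _ ≫ pullback.snd V.hom p ≫ pullback.snd f h = pullback.snd (V.hom ≫ f) h
      rw [pullback.lift_snd_assoc, pullback.lift_snd])
  have hψ : ψ ≫ (Over.map pr).map t ≫ π = (Over.pullback h).map g₀ := by
    have ht : t.left = pullback.snd V.hom p := (Category.comp_id _).symm.trans (Over.w t)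
    apply Over.OverMorphism.ext
    show pullback.lift _ _ _ ≫ t.left ≫ 𝟙 _ = _
    erw [Category.comp_id, ht, pullback.lift_snd]
    apply pullback.hom_ext
    · rw [pullback.lift_fst]
      exact (pullback.lift_fst _ _ _).symm
    · rw [pullback.lift_snd]
      exact (pullback.lift_snd _ _ _).symm
  have h0 : resX ((Over.map pr).map t ≫ π) η₁ = 0 := by
    apply (fExt_bijective τ pr Q _ (k + 1)).1
    rw [map_zero, fExt_resX, Category.id_comp, ← resX_fExt]
    have hz' : resX t ((fExt τ pr π _ (k + 1) η₁).comp (Ext.mk₀ e.hom) (add_zero _)) = 0 := hz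
    rw [resX_comp_ext] at hz'
    have := congrArg (fun q => Ext.comp q (Ext.mk₀ e.inv) (add_zero _)) hz'
    rw [Ext.comp_assoc _ _ _ (add_zero _) (add_zero 0) (by omega), Ext.mk₀_comp_mk₀,
      e.hom_inv_id, Ext.comp_mk₀_id, Ext.zero_comp] at this
    exact this
  refine ⟨W₀, g₀ ≫ o, v, ?_, ?_, ?_⟩
  · have : Etale V.hom := V.prop
    show Etale (V.hom ≫ O.ι)
    infer_instance
  · show O.ι (V.hom v) = x
    rw [hv]
    rfl
  · rw [Functor.map_comp, resX_comp, ← hψ, resX_comp]
    exact (congrArg (resX ψ) h0).trans (resX_zero _)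

end Groth.Agent.HTop50.Big
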