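import Groth.Agent.HTop50.Tor.BigRestrict
import Groth.Agent.HTop50.BigCompare

/-!
The isomorphism between the pullback of a direct image and the direct image on big sites is natural.
-/

universe u

open CategoryTheory CategoryTheory.Limits AlgebraicGeometry Opposite

namespace Groth.Agent.HTop50.Big

set_option backward.isDefEq.respectTransparency.types false

open Mod48 (GSite GPt bcMapF bcMapF_eta bcBig fppfGSite)

variable (τ : GrothendieckTopology Scheme.{u}) [GeomTop τ] {X Y : Scheme.{u}}

/-- The comparison of presheaves sends tautological sections to tautological sections. -/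
theorem presheafIso_eta [EtFppf.ACont X] (F : EtCoh.Ab X) {U : X.Etale} (s : EtCoh.sect F U) :
    (presheafIso τ F).hom.app (op ((EtFppf.a X).obj U)) (GSite.etaSect (τ.over X) (EtFppf.a X) F s) =
      GSite.etaSect (EtFppf.J X) (EtFppf.a X) F s :=
  (exists_right _).choose_spec.unique_right fun η v =>
    ((bigGSite τ X).val_eta F η v s).trans ((fppfGSite X).val_eta F η v s).symm

/-- A morphism out of a pullback is determined by its effect on tautological sections. -/
theorem hom_ext_eta {F : EtCoh.Ab X} {M : BAb τ X} (a b : (bigPull τ X).obj F ⟶ M)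
    (h : ∀ (U : X.Etale) (s : EtCoh.sect F U),
      a.hom.app (op ((EtFppf.a X).obj U)) (GSite.etaSect (τ.over X) (EtFppf.a X) F s) =
        b.hom.app (op ((EtFppf.a X).obj U)) (GSite.etaSect (τ.over X) (EtFppf.a X) F s)) : a = b := by
  apply ((bigAdj τ X).homEquiv _ _).injective
  rw [Adjunction.homEquiv_unit, Adjunction.homEquiv_unit]
  exact ObjectProperty.hom_ext _ (NatTrans.ext (funext fun U => ConcreteCategory.hom_ext _ _ fun s =>
    h U.unop s))

variable (f : Y ⟶ X) [IsProper f] [EtFppf.ACont X] [EtFppf.ACont Y]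

/-- The base change isomorphism on the big sites. -/
noncomputable def pushIso (E : EtCoh.Ab Y) :
    (bigPull τ X).obj ((EtCoh.push f).obj E) ≅ (bigDir τ f).obj ((bigPull τ Y).obj E) :=
  have := Mod48.isIso_bcMapF_proper f E
  (fullyFaithfulSheafToPresheaf _ _).preimageIso
    (presheafIso τ ((EtCoh.push f).obj E) ≪≫
      (sheafToPresheaf _ _).mapIso (asIso (Mod48.bcMapF f E)) ≪≫
      Functor.isoWhiskerLeft (Over.pullback f).op (presheafIso τ E).symm)

theorem pushIso_eta (E : EtCoh.Ab Y) (U : X.Etale) (s : EtCoh.sect ((EtCoh.push f).obj E) U) :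
    (pushIso τ f E).hom.hom.app (op ((EtFppf.a X).obj U))
        (GSite.etaSect (τ.over X) (EtFppf.a X) ((EtCoh.push f).obj E) s) =
      ((bigPull τ Y).obj E).obj.map (bcBig f U).op (GSite.etaSect (τ.over Y) (EtFppf.a Y) E s) := by
  show (presheafIso τ E).inv.app _ ((bcMapF f E).hom.app _
    ((presheafIso τ ((EtCoh.push f).obj E)).hom.app _ _)) = _
  rw [presheafIso_eta, bcMapF_eta, ← presheafIso_eta τ E s]
  refine (congrArg ((presheafIso τ E).inv.app _)
    (NatTrans.naturality_apply (presheafIso τ E).hom (bcBig f U).op _).symm).trans ?_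
  exact ConcreteCategory.congr_hom ((presheafIso τ E).hom_inv_id_app _) _

@[reassoc]
theorem pushIso_naturality {E E' : EtCoh.Ab Y} (g : E ⟶ E') :
    (bigPull τ X).map ((EtCoh.push f).map g) ≫ (pushIso τ f E').hom =
      (pushIso τ f E).hom ≫ (bigDir τ f).map ((bigPull τ Y).map g) := by
  refine hom_ext_eta τ _ _ fun U s => ?_
  have h1 : ((bigPull τ X).map ((EtCoh.push f).map g)).hom.app (op ((EtFppf.a X).obj U))
      (GSite.etaSect (τ.over X) (EtFppf.a X) _ s) =
        GSite.etaSect (τ.over X) (EtFppf.a X) ((EtCoh.push f).obj E')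
          (g.hom.app (op ((EtCoh.bc f).obj U)) s) :=
    (congrArg (fun k : (EtCoh.push f).obj E ⟶ (bigPush τ X).obj ((bigPull τ X).obj ((EtCoh.push f).obj E')) =>
      k.hom.app (op U) s) ((bigAdj τ X).unit.naturality ((EtCoh.push f).map g))).symm
  have h2 : ((bigPull τ Y).map g).hom.app (op ((EtFppf.a Y).obj ((EtCoh.bc f).obj U)))
      (GSite.etaSect (τ.over Y) (EtFppf.a Y) E s) =
        GSite.etaSect (τ.over Y) (EtFppf.a Y) E' (g.hom.app (op ((EtCoh.bc f).obj U)) s) :=
    (congrArg (fun k : E ⟶ (bigPush τ Y).obj ((bigPull τ Y).obj E') =>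
      k.hom.app (op ((EtCoh.bc f).obj U)) s) ((bigAdj τ Y).unit.naturality g)).symm
  show (pushIso τ f E').hom.hom.app _ (((bigPull τ X).map ((EtCoh.push f).map g)).hom.app _ _) =
    ((bigPull τ Y).map g).hom.app _ ((pushIso τ f E).hom.hom.app _ _)
  rw [h1, pushIso_eta, pushIso_eta]
  refine Eq.trans ?_ (NatTrans.naturality_apply ((bigPull τ Y).map g).hom (bcBig f U).op _).symm
  exact congrArg _ h2.symm

end Groth.Agent.HTop50.Big
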