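import Groth.Agent.HTop50.Tor.Vanish
import Groth.Agent.HTop50.Tor.EtaleTop
import Groth.Agent.HTop50.Tor.PushIso
import Groth.Agent.RD97.LES

/-!
Comparison of torsion étale cohomology with the big sites of topologies between the étale and the ph
topology, given proper base change.
-/

universe u v₁ v₂ w₁ w₂

open CategoryTheory CategoryTheory.Limits AlgebraicGeometry Opposite CategoryTheory.Abelian

namespace Groth.Agent.HTop50.Big

set_option backward.isDefEq.respectTransparency.types false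
set_option linter.unusedSectionVars false

open Mod48 (lFree lMap resX resX_comp resX_zero isZero_rightDerived_of_kill)

section LES

variable {C : Type w₁} [Category.{v₁} C] [Abelian C] [EnoughInjectives C]
  {D : Type w₂} [Category.{v₂} D] [Abelian D] (Φ : C ⥤ D) [Φ.Additive] [PreservesFiniteLimits Φ]
  {S : ShortComplex C} (hS : S.ShortExact)
include hS

/-- The first derived functor on the left term when the middle one is acyclic. -/
theorem nonempty_rightDerived_one_iso (hz : IsZero ((Φ.rightDerived 1).obj S.X₂)) :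
    Nonempty ((Φ.rightDerived 1).obj S.X₁ ≅ cokernel (Φ.map S.g)) := by
  obtain ⟨Δ⟩ := RD97.nonempty_derivedLES Φ
  have hex := Δ.exact₃ S hS 0 1 rfl
  have : Epi (ShortComplex.mk _ _ (Δ.comp_δ S hS 0 1 rfl)).g :=
    (Δ.exact₁ S hS 0 1 rfl).epi_f (hz.eq_of_tgt _ _)
  exact ⟨(hex.gIsCokernel).coconePointUniqueUpToIso (cokernelIsCokernel _) ≪≫
    cokernel.mapIso _ _ (Φ.rightDerivedZeroIsoSelf.app S.X₂) (Φ.rightDerivedZeroIsoSelf.app S.X₃)
      (Φ.rightDerivedZeroIsoSelf.hom.naturality S.g)⟩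

/-- Dimension shift in higher degrees. -/
theorem nonempty_rightDerived_succ_iso (n : ℕ) (h1 : IsZero ((Φ.rightDerived (n + 1)).obj S.X₂))
    (h2 : IsZero ((Φ.rightDerived (n + 2)).obj S.X₂)) :
    Nonempty ((Φ.rightDerived (n + 1)).obj S.X₃ ≅ (Φ.rightDerived (n + 2)).obj S.X₁) := by
  obtain ⟨Δ⟩ := RD97.nonempty_derivedLES Φ
  have : Mono (Δ.δ S hS (n + 1) (n + 2) rfl) :=
    (Δ.exact₃ S hS (n + 1) (n + 2) rfl).mono_g (h1.eq_of_src _ _)
  have : Epi (Δ.δ S hS (n + 1) (n + 2) rfl) :=
    (Δ.exact₁ S hS (n + 1) (n + 2) rfl).epi_f (h2.eq_of_tgt _ _)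
  have := isIso_of_mono_of_epi (Δ.δ S hS (n + 1) (n + 2) rfl)
  exact ⟨asIso (Δ.δ S hS (n + 1) (n + 2) rfl)⟩

end LES

variable {τ : GrothendieckTopology Scheme.{u}} [GeomTop τ] (hpbc : Tor.ProperBC.{u})
  (hτ : τ ≤ HTop.phTopology)
include hpbc hτ

/-- The restriction of a torsion pullback to the small étale site has no higher direct images. -/
theorem isZero_rightDerived_bigPush {X : Scheme.{u}} {F : EtCoh.Ab X} (hF : EtCoh.IsTorsion F) (q : ℕ)
    (hq : 0 < q) : IsZero (((bigPush τ X).rightDerived q).obj ((bigPull τ X).obj F)) := by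
  obtain ⟨n, rfl⟩ := Nat.exists_eq_add_one.2 hq
  refine isZero_rightDerived_of_kill (EtFppf.a X) _ n fun V ξ => ?_
  have hk := acyUpTo_all hpbc hτ (n + 1) X F hF (n + 1) (by omega) le_rfl _ ξ
  refine ⟨{ arrows := fun W g => resX ((EtFppf.a X).map g) ξ = 0
            downward_closed := fun {W W' g} hg k => by
              rw [Functor.map_comp, resX_comp, hg]; exact resX_zero _ },
    Unr55.EtSh.mem_topology fun x => ?_, fun W g hg => hg⟩
  obtain ⟨W', g, w, hg, hw, hz⟩ := hk x
  have : Etale V.hom := V.prop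
  have hW : Etale W'.hom := by
    rw [← Over.w g]
    exact MorphismProperty.comp_mem _ _ _ hg (inferInstance : Etale V.hom)
  let W'' : X.Etale := MorphismProperty.Over.mk ⊤ W'.hom hW
  refine ⟨W'', MorphismProperty.Over.homMk g.left (Over.w g), w, ?_, hw⟩
  exact hz

/-- Étale cohomology of a torsion sheaf is cohomology on the big site. -/
theorem nonempty_H_equiv_torsion {X : Scheme.{u}} {F : EtCoh.Ab X} (hF : EtCoh.IsTorsion F) (q : ℕ) :
    Nonempty (EtCoh.H X F q ≃+ Sheaf.H.{u + 1} ((bigPull τ X).obj F) q) :=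
  nonempty_H_equiv F q fun j h1 h2 => etAcy_of_acy (acyUpTo_all hpbc hτ q X F hF j h1 h2)

/-- Comparison with the big étale site. -/
theorem eps_torsion {X : Scheme.{u}} [(𝟭 (Over X)).IsContinuous (Scheme.etaleTopology.over X) (τ.over X)]
    [((𝟭 (Over X)).sheafPushforwardContinuous AddCommGrpCat.{u + 1} (Scheme.etaleTopology.over X)
      (τ.over X)).Additive]
    {F : EtCoh.Ab X} (hF : EtCoh.IsTorsion F) :
    Nonempty (((𝟭 (Over X)).sheafPushforwardContinuous AddCommGrpCat.{u + 1} (Scheme.etaleTopology.over X)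
        (τ.over X)).obj ((bigPull τ X).obj F) ≅ (bigPull Scheme.etaleTopology X).obj F) ∧
    ∀ i : ℕ, 0 < i → IsZero ((((𝟭 (Over X)).sheafPushforwardContinuous AddCommGrpCat.{u + 1}
        (Scheme.etaleTopology.over X) (τ.over X)).rightDerived i).obj ((bigPull τ X).obj F)) := by
  have : EtFppf.ACont X := Mod48.aCont X
  refine ⟨⟨(fullyFaithfulSheafToPresheaf _ _).preimageIso
    ((NatIso.ofComponents (fun W => Iso.refl _) (fun _ => (Category.comp_id _).trans (Category.id_comp _).symm)) ≪≫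
      presheafIso τ F ≪≫ (presheafIso Scheme.etaleTopology F).symm)⟩, fun i hi => ?_⟩
  obtain ⟨n, rfl⟩ := Nat.exists_eq_add_one.2 hi
  refine isZero_rightDerived_of_kill (𝟭 (Over X)) _ n fun V ξ => ?_
  have hk := acyUpTo_all hpbc hτ (n + 1) X F hF (n + 1) (by omega) le_rfl V ξ
  refine ⟨{ arrows := fun W g => resX g ξ = 0
            downward_closed := fun {W W' g} hg k => by rw [resX_comp, hg]; exact resX_zero _ },
    mem_over_of_etale Scheme.etaleTopology _ fun x => ?_, fun W g hg => hg⟩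
  obtain ⟨W', g, w, hg, hw, hz⟩ := hk x
  exact ⟨W', g, w, hz, hg, hw⟩

/-- Direct images of torsion sheaves without higher direct images have none on the big sites. -/
theorem isZero_rightDerived_bigDir {X Y : Scheme.{u}} (h : Y ⟶ X) [IsProper h] {E : EtCoh.Ab Y}
    (hE : EtCoh.IsTorsion E) (hR : ∀ q, IsZero ((EtCoh.Rpush h (q + 1)).obj E)) (n : ℕ) :
    IsZero (((bigDir τ h).rightDerived (n + 1)).obj ((bigPull τ Y).obj E)) := by
  refine isZero_rightDerived_of_kill (Over.pullback h) _ n fun V ξ => ?_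
  refine ⟨{ arrows := fun W g => resX ((Over.pullback h).map g) ξ = 0
            downward_closed := fun {W W' g} hg k => by
              rw [Functor.map_comp, resX_comp, hg]; exact resX_zero _ },
    mem_over_of_etale τ _ fun x => ?_, fun W g hg => hg⟩
  obtain ⟨W₀, g, w, hg, hw, hz⟩ := lKill_of_acyUpTo hpbc (n + 1) (acyUpTo_all hpbc hτ (n + 1)) h hE hR
    (n + 1) (by omega) le_rfl V ξ x
  exact ⟨W₀, g, w, hz, hg, hw⟩

/-- Pullback to the big site commutes with higher direct images along proper morphisms, for torsion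
sheaves. -/
theorem nonempty_Rpush_iso {X Y : Scheme.{u}} (h : Y ⟶ X) [IsProper h] :
    ∀ (i : ℕ) (F : EtCoh.Ab Y), EtCoh.IsTorsion F →
      Nonempty ((bigPull τ X).obj ((EtCoh.Rpush h i).obj F) ≅
        ((bigDir τ h).rightDerived i).obj ((bigPull τ Y).obj F)) := by
  have : EtFppf.ACont X := Mod48.aCont X
  have : EtFppf.ACont Y := Mod48.aCont Y
  have : PreservesLimitsOfSize.{0, 0} (EtCoh.push h) := (EtCoh.pullPushAdj h).rightAdjoint_preservesLimits
  have : PreservesFiniteLimits (EtCoh.push h) := PreservesLimitsOfSize.preservesFiniteLimits _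
  have : PreservesLimitsOfSize.{0, 0} (bigDir τ h) := (fResAdj τ h).rightAdjoint_preservesLimits
  have : PreservesFiniteLimits (bigDir τ h) := PreservesLimitsOfSize.preservesFiniteLimits _
  intro i
  match i with
  | 0 =>
    exact fun F _ => ⟨(bigPull τ X).mapIso ((EtCoh.push h).rightDerivedZeroIsoSelf.app F) ≪≫
      pushIso τ h F ≪≫ ((bigDir τ h).rightDerivedZeroIsoSelf.app _).symm⟩
  | m + 1 =>
    induction m with
    | zero => ?_
    | succ m ih => ?_
    all_goals
      intro F hF
      obtain ⟨T, v, hv, hT, hTa⟩ := Tor.exists_torsion_qcAcyclic hF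
      let S : ShortComplex (EtCoh.Ab Y) := ShortComplex.mk v (cokernel.π v) (cokernel.condition _)
      have hS : S.ShortExact :=
        { exact := ShortComplex.exact_of_g_is_cokernel _ (cokernelIsCokernel v)
          mono_f := hv
          epi_g := inferInstanceAs (Epi (cokernel.π _)) }
      have hS' := aPull_shortExact τ hS
      have hz : ∀ q, IsZero ((EtCoh.Rpush h (q + 1)).obj S.X₂) := fun q =>
        Tor.isZero_Rpush_of_qcAcyclic h q T hTa
      have hz' := isZero_rightDerived_bigDir hpbc hτ h hT hz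
    · obtain ⟨a⟩ := nonempty_rightDerived_one_iso (EtCoh.push h) hS (hz 0)
      obtain ⟨b⟩ := nonempty_rightDerived_one_iso (bigDir τ h) hS' (hz' 0)
      exact ⟨(bigPull τ X).mapIso a ≪≫ PreservesCokernel.iso (bigPull τ X) _ ≪≫
        cokernel.mapIso _ _ (pushIso τ h S.X₂) (pushIso τ h S.X₃) (pushIso_naturality τ h S.g) ≪≫ b.symm⟩
    · obtain ⟨a⟩ := nonempty_rightDerived_succ_iso (EtCoh.push h) hS m (hz m) (hz (m + 1))
      obtain ⟨b⟩ := nonempty_rightDerived_succ_iso (bigDir τ h) hS' m (hz' m) (hz' (m + 1))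
      obtain ⟨c⟩ := ih S.X₃ (Cons51.isTorsion_of_epi S.g hT)
      exact ⟨(bigPull τ X).mapIso a.symm ≪≫ c ≪≫ b⟩

end Groth.Agent.HTop50.Big
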