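import Groth.Agent.HTop50.Tor.Kill
import Groth.Agent.HTop50.Tor.Cover
import Groth.Agent.HTop50.BigCompare

/-!
Higher classes of torsion sheaves on the big site of a topology coarser than the ph topology die étale
locally, given proper base change.
-/

universe u

open CategoryTheory CategoryTheory.Limits AlgebraicGeometry Opposite CategoryTheory.Abelian

namespace Groth.Agent.HTop50.Big

set_option backward.isDefEq.respectTransparency.types false
set_option linter.unusedSectionVars false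

open Mod48 (GSite lFree lMap lSec lEquiv lEquiv_comp lEquiv_symm_comp resX resX_comp resX_zero
  resX_comp_ext resX_mk₀ exists_cover_resX_eq_zero)

variable {τ : GrothendieckTopology Scheme.{u}} [GeomTop τ]

lemma hom_bTop_ext {X : Scheme.{u}} {W : Over X} (a b : W ⟶ bTop X) : a = b := hom_top_ext a b

variable (hpbc : Tor.ProperBC.{u})
include hpbc

set_option maxHeartbeats 1000000 in
/-- The inductive step at the final object of an affine base. -/
theorem etKill_bTop {X Y : Scheme.{u}} [IsAffine X] (h : Y ⟶ X) [IsProper h] [Surjective h] (n : ℕ)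
    (hA : AcyUpTo τ n) {F : EtCoh.Ab X} (hF : EtCoh.IsTorsion F)
    (ξ : Ext.{u + 1} (lFree (τ.over X) (bTop X)) ((bigPull τ X).obj F) (n + 1))
    (hloc : ∀ y : Y, ∃ (O : Scheme.{u}) (o : O ⟶ Y), IsOpenImmersion o ∧ y ∈ Set.range o ∧
      ∀ g : Over.mk (o ≫ h) ⟶ bTop X, resX g ξ = 0) : EtKill ξ := by
  have : CompactSpace Y := QuasiCompact.compactSpace_of_compactSpace h
  have : QuasiSeparatedSpace Y := quasiSeparatedSpace_of_quasiSeparated h
  obtain ⟨E, v, hv, hE, hEa⟩ := Tor.exists_torsion_qcAcyclic (Cons51.isTorsion_pull h hF)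
  have : Mono v := hv
  let u₀ := (EtCoh.pullPushAdj h).unit.app F
  have : Mono u₀ := Unr55.EtSh.mono_unit_of_surjective h F
  have : PreservesLimitsOfSize.{0, 0} (EtCoh.push h) := (EtCoh.pullPushAdj h).rightAdjoint_preservesLimits
  let φ₀ : F ⟶ (EtCoh.push h).obj E := u₀ ≫ (EtCoh.push h).map v
  have : Mono φ₀ := inferInstance
  let S : ShortComplex (EtCoh.Ab X) := ShortComplex.mk φ₀ (cokernel.π φ₀) (cokernel.condition _)
  have hS : S.ShortExact :=
    { exact := ShortComplex.exact_of_g_is_cokernel _ (cokernelIsCokernel φ₀)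
      mono_f := this
      epi_g := inferInstanceAs (Epi (cokernel.π _)) }
  have hS' := aPull_shortExact τ hS
  obtain ⟨i⟩ := nonempty_push_iso τ h E
  let φ : (bigPull τ X).obj F ⟶ (bigDir τ h).obj ((bigPull τ Y).obj E) := (bigPull τ X).map φ₀ ≫ i.hom
  let c₀ := psi h _ (ξ.comp (Ext.mk₀ φ) (add_zero _))
  let u : bTop Y ⟶ (Over.pullback h).obj (bTop X) :=
    Over.homMk (pullback.lift (f := (bTop X).hom) (g := h) h (𝟙 Y)
      ((Category.comp_id _).trans (Category.id_comp _).symm)) (pullback.lift_snd _ _ _)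
  let u' : (Over.pullback h).obj (bTop X) ⟶ bTop Y :=
    Over.homMk (pullback.snd (bTop X).hom h) (Category.comp_id _)
  have hu : u' ≫ u = 𝟙 _ := by
    apply Over.OverMorphism.ext
    show pullback.snd (bTop X).hom h ≫ pullback.lift (f := (bTop X).hom) (g := h) h (𝟙 Y) _ = 𝟙 _
    apply pullback.hom_ext
    · rw [Category.assoc, pullback.lift_fst, Category.id_comp]
      exact pullback.condition.symm.trans (Category.comp_id _)
    · rw [Category.assoc, pullback.lift_snd, Category.id_comp]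
      exact Category.comp_id _
  have hk : EtKill (resX u c₀) := fun y => by
    obtain ⟨O, o, ho, ⟨z, hz⟩, hl⟩ := hloc y
    let V' : Over Y := Over.mk o
    let g' : V' ⟶ bTop Y := Over.homMk o (Category.comp_id _)
    refine ⟨V', g', z, (inferInstance : Etale o), hz, ?_⟩
    have hk2 : fExt τ h ((Over.map h).map (g' ≫ u) ≫ piW h (bTop X)) _ (n + 1) ξ = 0 := by
      have h' := fExt_resX τ h (V := V') (𝟙 _) ((Over.map h).map (g' ≫ u) ≫ piW h (bTop X)) ξ
      have hl' : resX ((Over.map h).map (g' ≫ u) ≫ piW h (bTop X)) ξ = 0 := hl _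
      rw [hl', map_zero, Category.id_comp] at h'
      exact h'.symm
    rw [← resX_comp]
    show resX (g' ≫ u) (psi h _ _) = 0
    rw [psi, fExt_comp, resX_comp_ext, resX_comp_ext, resX_fExt, hk2, Ext.zero_comp, Ext.zero_comp]
  have h0 : c₀ = 0 := by
    have h1 : resX u c₀ = 0 := eq_zero_of_etKill E n
      (fun j h1 h2 => etAcy_of_acy (hA Y E hE j h1 h2)) (subsingleton_H_of_qcAcyclic hEa n) _ hk
    have h2 : resX (u' ≫ u) c₀ = 0 := by rw [resX_comp, h1]; exact resX_zero _
    rw [hu, show resX (𝟙 _) c₀ = c₀ from ?_] at h2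
    · exact h2
    · show (Ext.mk₀ (lMap _ (𝟙 _))).comp c₀ _ = c₀
      rw [show lMap (τ.over Y) (𝟙 ((Over.pullback h).obj (bTop X))) = 𝟙 _ by simp [lMap]]
      exact Ext.mk₀_id_comp c₀
  refine etKill_of_local fun x => ?_
  obtain ⟨W', g, w, hg, hw, hz⟩ := etKill_of_psi h n _ (fun j hj hj' =>
    lKill_of_acyUpTo hpbc n hA h hE (fun q => Tor.isZero_Rpush_of_qcAcyclic h q E hEa) j hj hj') _ _ h0 x
  refine ⟨W', g, w, hg, hw, ?_⟩
  have hz2 : (resX g ξ).comp (Ext.mk₀ ((bigPull τ X).map φ₀)) (add_zero _) = 0 := by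
    rw [resX_comp_ext] at hz
    have := congrArg (fun q => Ext.comp q (Ext.mk₀ i.inv) (add_zero _)) hz
    rw [Ext.comp_assoc _ _ _ (add_zero _) (add_zero 0) (by omega), Ext.mk₀_comp_mk₀, Category.assoc,
      i.hom_inv_id, Category.comp_id, Ext.zero_comp] at this
    exact this
  obtain ⟨s, hs⟩ := Ext.covariant_sequence_exact₁ _ hS' (resX g ξ) hz2 rfl
  rcases Nat.eq_zero_or_pos n with rfl | hn
  · obtain ⟨ψ, rfl⟩ := Ext.addEquiv₀.symm.surjective s
    obtain ⟨t, rfl⟩ := (lEquiv W' _).symm.surjective ψ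
    intro y
    obtain ⟨W'', g', w', b, hg', hw', hb⟩ := exists_etale_lift τ (cokernel.π φ₀) t y
    refine ⟨W'', g', w', hg', hw', ?_⟩
    refine (congrArg (resX g') hs.symm).trans ?_
    show resX g' (Ext.comp (Ext.mk₀ _) _ (zero_add 1)) = 0
    rw [resX_comp_ext, resX_mk₀]
    refine (congrArg (fun r => Ext.comp (Ext.mk₀ ((lEquiv W'' (S.map (bigPull τ X)).X₃).symm r))
      hS'.extClass (zero_add 1)) hb.symm).trans ?_
    refine (congrArg (fun q => Ext.comp (Ext.mk₀ q) hS'.extClass (zero_add 1))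
      (lEquiv_symm_comp b ((bigPull τ X).map (cokernel.π φ₀))).symm).trans ?_
    show (Ext.mk₀ ((lEquiv W'' (S.map (bigPull τ X)).X₂).symm b ≫ (S.map (bigPull τ X)).g)).comp
      hS'.extClass (zero_add 1) = 0
    rw [← Ext.mk₀_comp_mk₀, Ext.comp_assoc _ _ _ (add_zero 0) (zero_add 1) (by omega), hS'.comp_extClass,
      Ext.comp_zero]
  · have hQ : EtCoh.IsTorsion S.X₃ := Cons51.isTorsion_of_epi S.g (Cons51.isTorsion_push h hE)
    intro y
    obtain ⟨W'', g', w', hg', hw', hz'⟩ := hA X S.X₃ hQ n hn le_rfl W' s y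
    refine ⟨W'', g', w', hg', hw', ?_⟩
    refine (congrArg (resX g') hs.symm).trans ?_
    refine (resX_comp_ext _ s hS'.extClass rfl).trans ?_
    exact (congrArg (fun q => Ext.comp q hS'.extClass rfl) hz').trans (Ext.zero_comp _ _ hS'.extClass _ rfl)

variable (hτ : τ ≤ HTop.phTopology)
include hτ

set_option maxHeartbeats 1000000 in
/-- Higher classes of torsion sheaves die étale locally. -/
theorem acyUpTo_all : ∀ n : ℕ, AcyUpTo τ n := by
  intro n
  induction n with
  | zero => intro Y E _ j h1 h2; omega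
  | succ n ih =>
    intro X F hF j h1 h2
    rcases Nat.lt_or_ge j (n + 1) with hj | hj
    · exact ih X F hF j h1 (by omega)
    obtain rfl : j = n + 1 := by omega
    intro W ξ
    obtain ⟨R, hR, hkill⟩ := exists_cover_resX_eq_zero n _ _ ξ
    have hLR := locRef_of_mem_phTopology (hτ _ ((GrothendieckTopology.mem_over_iff _ _).1 hR))
    refine etKill_of_local fun x => ?_
    obtain ⟨W', j, P, q, hW', hj', ⟨x', hx'⟩, hq, hq', hfac⟩ := hLR.exists_affine x
    let W₁ : Over X := Over.mk (j ≫ W.hom)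
    let o : W₁ ⟶ W := Over.homMk j rfl
    refine ⟨W₁, o, x', (inferInstance : Etale j), hx', ?_⟩
    let f : W' ⟶ X := W₁.hom
    let p : (Over.map f).obj (bTop W') ⟶ W₁ := Over.homMk (𝟙 _) rfl
    let e : (fRes τ f).obj ((bigPull τ X).obj F) ≅ (bigPull τ W').obj ((EtCoh.pull f).obj F) :=
      (fResPullIso τ f).app F
    let ξ' := (fExt τ f p _ (n + 1) (resX o ξ)).comp (Ext.mk₀ e.hom) (add_zero _)
    have hξ' : EtKill ξ' := by
      refine etKill_bTop hpbc q n ih (Cons51.isTorsion_pull f hF) ξ' fun y => ?_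
      obtain ⟨O, o', i, k, ho', hy, hk⟩ := hfac y
      refine ⟨O, o', ho', hy, fun g => ?_⟩
      have hR' : (Sieve.overEquiv W R).arrows ((o' ≫ q) ≫ j) :=
        (congrArg (fun g => (Sieve.overEquiv W R).arrows g)
          (hk.trans (Category.assoc _ _ _).symm)).mp ((Sieve.overEquiv W R).downward_closed i.2 k)
      have hm := (Sieve.overEquiv_iff R _).1 hR'
      have hg : g.left = o' ≫ q := (Category.comp_id _).symm.trans (Over.w g)
      let P₀ : Over X := (Over.map f).obj (Over.mk (o' ≫ q))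
      let m : P₀ ⟶ W := (Over.map f).map g ≫ p ≫ o
      have hmR : R.arrows m := by
        let a : P₀ ⟶ Over.mk (((o' ≫ q) ≫ j) ≫ W.hom) :=
          Over.homMk (𝟙 O) ((Category.id_comp _).trans (Category.assoc _ _ _))
        have h3 := R.downward_closed hm a
        have e' : a ≫ (Over.homMk ((o' ≫ q) ≫ j) : Over.mk (((o' ≫ q) ≫ j) ≫ W.hom) ⟶ W) = m := by
          apply Over.OverMorphism.ext
          show 𝟙 O ≫ (o' ≫ q) ≫ j = g.left ≫ 𝟙 W' ≫ j
          erw [Category.id_comp, Category.id_comp, hg]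
          rfl
        exact e' ▸ h3
      have h0 : fExt τ f m _ (n + 1) ξ = 0 := by
        have h' := fExt_resX τ f (V := Over.mk (o' ≫ q)) (𝟙 _) m ξ
        rw [hkill _ _ hmR, map_zero, Category.id_comp] at h'
        exact h'.symm
      show resX g ((fExt τ f p _ (n + 1) (resX o ξ)).comp (Ext.mk₀ e.hom) (add_zero _)) = 0
      rw [resX_comp_ext, resX_fExt, fExt_resX, Category.assoc, h0, Ext.zero_comp]
    intro y
    obtain ⟨V', g, v, hg, hv, hz⟩ := hξ' y
    refine ⟨(Over.map f).obj V', (Over.map f).map g ≫ p, v, ?_, ?_, ?_⟩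
    · show Etale (g.left ≫ 𝟙 W')
      erw [Category.comp_id]
      exact hg
    · show (g.left ≫ 𝟙 W') v = y
      erw [Category.comp_id]
      exact hv
    · apply (fExt_bijective τ f V' _ (n + 1)).1
      rw [map_zero, fExt_resX, Category.id_comp, ← resX_fExt]
      have hz' : resX g ((fExt τ f p _ (n + 1) (resX o ξ)).comp (Ext.mk₀ e.hom) (add_zero _)) = 0 := hz
      rw [resX_comp_ext] at hz'
      have := congrArg (fun q => Ext.comp q (Ext.mk₀ e.inv) (add_zero _)) hz'
      rw [Ext.comp_assoc _ _ _ (add_zero _) (add_zero 0) (by omega), Ext.mk₀_comp_mk₀,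
        e.hom_inv_id, Ext.comp_mk₀_id, Ext.zero_comp] at this
      exact this

end Groth.Agent.HTop50.Big
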